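import Cfsg.Agent.StdX.Defs3
import Cfsg.Agent.StdL2.Defs
import Cfsg.Agent.SylT.Defs
import Cfsg.Agent.Spor.GF4

/-!
# Standard subgroups of type `J₂`: definitions

`Γ0 ≤ Γ` are subgroups of a finite group `Ω`, a model of `J₂ ≤ Aut J₂`.
-/

set_option autoImplicit false

namespace Cfsg.Lib.SJ2

open Subgroup Cfsg.Lib.Gold Cfsg.Lib.Trans Cfsg.Lib.StdSz Cfsg.Lib.StdW
open Cfsg.Lib.StdM (Cl)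
open Cfsg.Lib.StdX (OF VG Tr3)
open scoped commutatorElement

variable {G Ω : Type*} [Group G] [Group Ω]

/-- the group generated by two commuting involutions -/
def K4 (a b : G) : Subgroup G := closure {a, b}

theorem K4_def (a b : G) : K4 a b = closure {a, b} := K4.eq_1 a b

theorem l_K4 (a b : G) : a ∈ K4 a b := subset_closure (Set.mem_insert _ _)

theorem r_K4 (a b : G) : b ∈ K4 a b := subset_closure (Set.mem_insert_of_mem _ rfl)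

theorem lr_K4 (a b : G) : a * b ∈ K4 a b := mul_mem (l_K4 a b) (r_K4 a b)

theorem K4_le {a b : G} {H : Subgroup G} : K4 a b ≤ H ↔ a ∈ H ∧ b ∈ H := by
  rw [K4_def, closure_le, Set.insert_subset_iff, Set.singleton_subset_iff]; rfl

theorem mem_K4 {a b x : G} (a2 : a * a = 1) (b2 : b * b = 1) (c : Commute a b) :
    x ∈ K4 a b ↔ x = 1 ∨ x = a ∨ x = b ∨ x = a * b := by
  refine ⟨fun hx => ?_, ?_⟩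
  · have a3 : ∀ u, a * (a * u) = u := fun u => by rw [← mul_assoc, a2, one_mul]
    have b3 : ∀ u, b * (b * u) = u := fun u => by rw [← mul_assoc, b2, one_mul]
    induction hx using closure_induction with
    | mem u hu => rcases hu with rfl | rfl <;> simp
    | one => exact Or.inl rfl
    | mul u w _ _ hu hw =>
      rcases hu with rfl | rfl | rfl | rfl <;> rcases hw with rfl | rfl | rfl | rfl <;>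
        simp [mul_assoc, a2, b2, a3, b3, c.symm.eq, c.symm.left_comm]
    | inv u _ hu =>
      rcases hu with rfl | rfl | rfl | rfl <;>
        simp [inv_eq_of_mul_eq_one_right a2, inv_eq_of_mul_eq_one_right b2, c.symm.eq]
  · rintro (rfl | rfl | rfl | rfl)
    exacts [one_mem _, l_K4 _ _, r_K4 _ _, lr_K4 _ _]

/-- basic facts on the model: `T` is a Sylow 2-subgroup of `Γ0`, `z` and `y` represent the classes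
of involutions -/
structure Bas (Γ Γ0 T : Subgroup Ω) (z y : Ω) (n : ℕ) : Prop where
  le : Γ0 ≤ Γ
  idx : ∀ x ∈ Γ, ∀ y ∈ Γ, x ∉ Γ0 → y ∉ Γ0 → x * y ∈ Γ0
  simple : IsSimpleGroup Γ0
  aut : ∀ φ : MulAut Γ0, ∃ g ∈ Γ, ∀ x : Γ0, (φ x : Ω) = g * x * g⁻¹
  T0 : T ≤ Γ0
  cardT : Nat.card T = 2 ^ n
  syl : ∀ Q ≤ Γ0, IsPGroup 2 Q → Nat.card Q ≤ 2 ^ n
  n7 : n = 7
  zT : z ∈ T
  z2 : z * z = 1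
  z1 : z ≠ 1
  zc : z ∈ Cs T
  centT : Γ ⊓ Cs T ≤ zpowers z
  zder : z ∈ ⁅T, T⁆
  yT : y ∈ T
  y2 : y * y = 1
  y1 : y ≠ 1
  cls : ∀ a ∈ Γ0, a * a = 1 → a = 1 ∨ Cl Γ0 z a ∨ Cl Γ0 y a
  genT : T ≤ closure {a | a ∈ T ∧ a * a = 1}
  derJ : ⁅T, T⁆ ≤ closure {a | a ∈ T ∧ Cl Γ0 z a}
  abC : ∀ a ∈ T ⊓ Cs ⁅T, T⁆, ∀ b ∈ T ⊓ Cs ⁅T, T⁆, Commute a b
  cder : Γ ⊓ Cs ⁅T, T⁆ ≤ T
  zb : ∃ b ∈ ⁅T, T⁆, b ≠ z ∧ Cl Γ0 z b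
  al : ∃ a ∈ T, ∃ b ∈ T, ∃ c ∈ T, ⁅⁅a, b⁆, c⁆ ≠ 1 ∧ Γ0 ≤ (Γ0 ⊓ C1 z) ⊔ (Γ0 ⊓ C1 ⁅⁅a, b⁆, c⁆)
  cardR : Nat.card ↥(T ⊓ C1 y) = 16
  sylR : ∀ Q ≤ Γ0 ⊓ C1 y, IsPGroup 2 Q → Nat.card Q ≤ 16
  sqR : ∀ a ∈ T ⊓ C1 y, a * a = 1
  cl3 : ∀ b c, Cl Γ0 z b → Cl Γ0 z c → Commute z b → Commute z c → Commute b c → b ≠ z →
    c = z ∨ c = b ∨ c = z * b
  wd : ∃ q ∈ T ⊓ C1 y, ∃ y' ∈ T ⊓ C1 y, q ≠ 1 ∧ q ≠ z ∧ y' ≠ 1 ∧ y' ≠ y ∧ Cl Γ0 y y' ∧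
    Cl Γ0 y (y * y') ∧ ∀ u, u = z ∨ u = q ∨ u = z * q → Cl Γ0 y (y * u) ∧ y' ≠ u ∧ y' ≠ y * u

/-- facts on outer involutions; `σ` represents their class -/
structure Out (Γ Γ0 : Subgroup Ω) (σ : Ω) : Prop where
  σΓ : σ ∈ Γ
  σ0 : σ ∉ Γ0
  σ2 : σ * σ = 1
  ocl : ∀ x ∈ Γ, x ∉ Γ0 → x * x = 1 → Cl Γ0 σ x
  of : OF Γ0 4 σ
  ea : ∀ E ≤ Γ ⊓ C1 σ, (∀ a ∈ E, a * a = 1) → Nat.card E ≤ 8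
  o5 : ∀ x ∈ Γ0 ⊓ C1 σ, x ^ 5 = 1 → x = 1

/-- the subgroup `A₄ × A₅` of `A`; `N` acts on `A` -/
structure Ja (N A Y : Subgroup G) (z q y y₂ s₁ s₂ r r' : G) : Prop where
  YA : Y ≤ A
  zY : z ∈ Y
  qY : q ∈ Y
  s₁Y : s₁ ∈ Y
  yA : y ∈ A
  y₂A : y₂ ∈ A
  s₂A : s₂ ∈ A
  rA : r ∈ A
  r'A : r' ∈ A
  zz : z * z = 1
  qq : q * q = 1
  yy : y * y = 1
  y₂y₂ : y₂ * y₂ = 1
  z1 : z ≠ 1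
  q1 : q ≠ 1
  zq : z ≠ q
  y1 : y ≠ 1
  y₂1 : y₂ ≠ 1
  yy₂ : y ≠ y₂
  czq : Commute z q
  cyy₂ : Commute y y₂
  Yy : Y ≤ C1 y
  Yy₂ : Y ≤ C1 y₂
  Ys₂ : Y ≤ C1 s₂
  disj : ∀ e ∈ K4 y y₂, e ∈ Y → e = 1
  s₁z : s₁ * z * s₁⁻¹ = q
  s₁q : s₁ * q * s₁⁻¹ = z * q
  s₁3 : s₁ ^ 3 = 1
  s₂y : s₂ * y * s₂⁻¹ = y₂
  s₂y₂ : s₂ * y₂ * s₂⁻¹ = y * y₂
  s₂3 : s₂ ^ 3 = 1
  simple : IsSimpleGroup Y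
  perf : Y ≤ ⁅Y, Y⁆
  syl : IsSylowIn 2 (K4 z q) Y
  five : ∃ f ∈ Y, f ^ 5 = 1 ∧ f ≠ 1
  NY : ∀ g ∈ Y, g ∈ Ns (K4 z q) → ∃ e ∈ K4 z q, g = e ∨ g = e * s₁ ∨ g = e * (s₁ * s₁)
  CY : ∀ g ∈ Y, Commute g z → g ∈ K4 z q
  cls : ∀ a ∈ A, a * a = 1 → a = 1 ∨ Cl A z a ∨ Cl A y a
  ye : ∀ e ∈ K4 z q, Cl A y (y * e)
  cy : ∀ g ∈ N, Commute g y → g ∈ Ns (K4 y y₂)
  cy0 : ∀ g ∈ A, Commute g y → Commute g y₂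
  cV : ∀ g ∈ N, Commute g y → Commute g y₂ → ∃ w ∈ K4 y y₂, ∃ a ∈ Y, (w * a)⁻¹ * g ∈ Cs A
  cy1 : ∀ g ∈ N, Commute g y → Commute g z → Commute g q → Commute g y₂
  rr : r * r = 1
  r'r' : r' * r' = 1
  crr' : Commute r r'
  rz : Commute r z
  rq : Commute r q
  r'z : Commute r' z
  r'q : Commute r' q
  rV : ∀ x, x = r ∨ x = r' ∨ x = r * r' → ∀ e ∈ K4 y y₂, ⁅x, e⁆ ∈ K4 z q ∧ (⁅x, e⁆ = 1 → e = 1)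

/-- elements of order five commuting with an involution -/
structure J5 (Γ Γ0 : Subgroup Ω) (z y y₂ : Ω) : Prop where
  fz : ∀ x ∈ Γ, Commute x z → (∃ k, x ^ 2 ^ k = 1) → ∀ f ∈ Γ0, Commute f z → f ^ 5 = 1 → f ≠ 1 →
    Commute x f → x = 1 ∨ x = z
  fy : ∀ x ∈ Γ, Commute x y → (∃ k, x ^ 2 ^ k = 1) → ∀ f ∈ Γ0, Commute f y → f ^ 5 = 1 → f ≠ 1 →
    Commute x f → x ∈ K4 y y₂

/-- the geometry of the class of `z` -/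
structure Jo (Γ Γ0 : Subgroup Ω) (z q a₁ a₂ s w : Ω) : Prop where
  tr : Tr3 Γ Γ0 z q 1
  qz : q ≠ z
  flag : ∀ a, Cl Γ0 z a → Commute a z → a ≠ z → ∃ g ∈ Γ0, g * z * g⁻¹ = z ∧ g * q * g⁻¹ = a
  nbr : ∀ a b, Cl Γ0 z a → Cl Γ0 z b → Commute a z → Commute b z →
    Commute a b ∨ b * a * b⁻¹ = a * z
  cQ : ∀ k ∈ Γ, (∀ b, Cl Γ0 z b → Commute b z → Commute k b) → k = 1 ∨ k = z
  l₁ : Cl Γ0 z a₁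
  l₂ : Cl Γ0 z a₂
  c₁ : Commute a₁ z
  c₂ : Commute a₂ z
  e₁₂ : a₂ * a₁ * a₂⁻¹ = a₁ * z
  trf : ∀ k ∈ Γ ⊓ Cs (Γ0 ⊓ C1 a₁ ⊓ C1 a₂) ⊓ C1 a₁ ⊓ C1 a₂, k = 1 ∨ k = z
  g₁ : ∃ g ∈ Γ0, g * a₁ * g⁻¹ = a₁ ∧ g * a₂ * g⁻¹ = q ∧ g * z * g⁻¹ = z
  g₂ : ∃ g ∈ Γ0, g * a₁ * g⁻¹ = a₂ ∧ g * a₂ * g⁻¹ = q ∧ g * z * g⁻¹ = z
  s0 : s ∈ Γ0
  sz : s * z * s⁻¹ = q
  sq : s * q * s⁻¹ = z * q
  s3 : s ^ 3 = 1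
  rq : Commute (a₁ * a₂) q
  r₁ : s * (a₁ * a₂) * s⁻¹ * a₁ * (s * (a₁ * a₂) * s⁻¹)⁻¹ = a₂
  r₂ : s * (a₁ * a₂) * s⁻¹ * a₂ * (s * (a₁ * a₂) * s⁻¹)⁻¹ = a₁ * z
  prod : a₁ * a₂ * (s * (a₁ * a₂) * s⁻¹) * (s⁻¹ * (a₁ * a₂) * s) = 1
  w0 : w ∈ Γ0
  wz : Commute w z
  wq : Commute w q
  wr : ∀ x, x = w ∨ x = s⁻¹ * w * s ∨ x = s * w * s⁻¹ → ⁅x, a₁ * a₂⁆ ∈ K4 z q
  tw : ∀ γ ∈ Γ, Commute γ z → Commute γ q → γ * (a₁ * a₂) * γ⁻¹ = (a₁ * a₂)⁻¹ →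
    γ * (s * (a₁ * a₂) * s⁻¹) * γ⁻¹ = (s * (a₁ * a₂) * s⁻¹)⁻¹ → ⁅γ, w⁆ ∉ K4 z q
  clq : ∃ I : Set Ω, Γ0 ≤ closure I ∧ ∀ i ∈ I, Cl Γ0 z i ∧ ∀ j ∈ I, i = j ∨
    ∃ g ∈ Γ0, g * a₁ * g⁻¹ = i ∧ g * a₂ * g⁻¹ = j

/-- all facts on the model -/
def Mod (Γ Γ0 : Subgroup Ω) : Prop :=
  ∃ (T Y : Subgroup Ω) (z q y y₂ s₁ s₂ r r' : Ω), Bas Γ Γ0 T z y 7 ∧ (∃ σ, Out Γ Γ0 σ) ∧
    (∃ V γ m k, VG Γ Γ0 (Γ0 ⊓ C1 z) V z γ m k) ∧ Ja Γ Γ0 Y z q y y₂ s₁ s₂ r r' ∧ J5 Γ Γ0 z y y₂ ∧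
      T ⊓ C1 y = K4 z q ⊔ K4 y y₂ ∧ ∃ a₁ a₂ s w, Jo Γ Γ0 z q a₁ a₂ s w

/-- one factor of a product of two Sylow subgroups -/
structure PJ (B T B' T' : Subgroup G) (z y : G) (n N : ℕ) : Prop where
  TB : T ≤ B
  cardT : Nat.card T = 2 ^ n
  n2 : 2 ≤ n
  commB : ∀ a ∈ B, ∀ b ∈ B', Commute a b
  T'B' : T' ≤ B'
  disj : ∀ a ∈ T, a ∈ T' → a = 1
  zT : z ∈ T
  z2 : z * z = 1
  z1 : z ≠ 1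
  zc : z ∈ Cs T
  cent : ∀ a ∈ T, a ∈ Cs T → a = 1 ∨ a = z
  yT : y ∈ T
  y2 : y * y = 1
  y1 : y ≠ 1
  cls : ∀ a ∈ T, a * a = 1 → a = 1 ∨ Cl B z a ∨ Cl B y a
  genT : T ≤ closure {a | a ∈ T ∧ a * a = 1}
  derJ : ⁅T, T⁆ ≤ closure {a | a ∈ T ∧ Cl B z a}
  zder : z ∈ ⁅T, T⁆
  abC : ∀ a ∈ T ⊓ Cs ⁅T, T⁆, ∀ b ∈ T ⊓ Cs ⁅T, T⁆, Commute a b
  cardR : Nat.card ↥(T ⊓ C1 y) = N
  sylR : ∀ Q ≤ B ⊓ C1 y, IsPGroup 2 Q → Nat.card Q ≤ N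
  genR : T ⊓ C1 y ≤ closure {a | a ∈ T ⊓ C1 y ∧ a * a = 1}
  perf : B ≤ ⁅B, B⁆
  zB : z ∉ Cs B
  cl3 : ∀ b ∈ T, ∀ c ∈ T, Cl B z b → Cl B z c → Commute b c → b ≠ z → c = z ∨ c = b ∨ c = z * b
  wd : ∃ q ∈ T ⊓ C1 y, ∃ y' ∈ T ⊓ C1 y, Commute q y' ∧ q * q = 1 ∧ q ≠ 1 ∧ q ≠ z ∧ y' ≠ 1 ∧ y' ≠ y ∧
    Cl B y y' ∧ Cl B y (y * y') ∧
      ∀ u, u = z ∨ u = q ∨ u = z * q → Cl B y (y * u) ∧ y' ≠ u ∧ y' ≠ y * u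

/-- the second alternative: two commuting elements of order four inverted by `t` -/
structure Bt (A : Subgroup G) (t z q u₁ u₂ : G) : Prop where
  sq₁ : u₁ * u₁ = z
  sq₂ : u₂ * u₂ = q
  c : Commute u₁ u₂
  i₁ : t * u₁ * t = u₁⁻¹
  i₂ : t * u₂ * t = u₂⁻¹
  c₁ : u₁ ∈ Cs (A ⊓ C1 z)
  c₂ : u₂ ∈ Cs (A ⊓ C1 q)

/-- the centraliser of `t` -/
structure Cf (A O Y : Subgroup G) (t z q y y₂ s₁ s₂ r r' : G) : Prop where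
  j : Ja (Ns A) A Y z q y y₂ s₁ s₂ r r'
  s : St A O t
  hZ : A ⊓ Cs A = ⊥
  e32 : ∀ E ≤ C1 t, (∀ a ∈ E, a * a = 1) → Nat.card E ≤ 32 ∧
    (Nat.card E = 32 → ∃ a ∈ A, cj a E = K4 z q ⊔ K4 y y₂ ⊔ zpowers t)
  perfA : ∀ J ≤ C1 t, J ≤ ⁅J, J⁆ → J ≤ A
  perfP : A ⊓ C1 z ≤ ⁅A ⊓ C1 z, A ⊓ C1 z⁆
  autP : ∀ a ∈ Ns (A ⊓ C1 z), Commute a y → Commute a y₂ → Commute a s₂ → Commute a z →
    ∃ e ∈ K4 z q, e * a ∈ Cs (A ⊓ C1 z)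
  qP : ∀ e ∈ K4 z q, e ∈ Cs (A ⊓ C1 z) → e = 1 ∨ e = z

/-- the field with four elements -/
abbrev F4 : Type := Spor.GF4

/-- the primitive element -/
abbrev ω : F4 := Spor.GF4.w

/-- the primitive element as a unit -/
def ωu : F4ˣ := ⟨ω, ω * ω, by decide, by decide⟩

theorem ωu_val : (ωu : F4) = ω := rfl

/-- the tower in the centraliser of `A₄` -/
structure Tw (D : StdL2.Dat G F4) (Y : Subgroup G) (u₁ u₂ : G) : Prop where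
  nc : ∀ g b, g * D.t * g⁻¹ ≠ D.v b
  two : ∀ g ∈ D.B, (∃ k, g ^ 2 ^ k = 1) → g ∈ D.W
  sq₁ : u₁ * u₁ = D.v 1
  sq₂ : u₂ * u₂ = D.v ω
  c : Commute u₁ u₂
  i₁ : D.t * u₁ * D.t = u₁⁻¹
  i₂ : D.t * u₂ * D.t = u₂⁻¹
  v₁ : ∀ b, Commute u₁ (D.v b)
  v₂ : ∀ b, Commute u₂ (D.v b)
  O₁ : u₁ ∈ Cs D.O
  O₂ : u₂ ∈ Cs D.O
  simple : IsSimpleGroup Y
  perf : Y ≤ ⁅Y, Y⁆
  vY : ∀ b, D.v b ∈ Y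
  hY : ∀ k, D.h k ∈ Y

/-- a group of type `L₃(4)` with an involution interchanging its two elementary subgroups -/
structure Us (U F₁ F₂ : Subgroup G) (t z q s₁ : G) : Prop where
  tt : L34.TT U F₁ F₂ (K4 z q)
  t2 : t * t = 1
  sw : cj t F₁ = F₂
  tz : Commute t z
  tq : Commute t q
  cent : ∀ x ∈ U, Commute x t → x ∈ K4 z q
  sN : s₁ ∈ Ns U
  fpf : ∀ x ∈ U, Commute x s₁ → x = 1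
  conj : ∀ x ∈ U, t * x * t = x⁻¹ → ∃ a ∈ U, a * t * a⁻¹ = t * x
  root : ∀ e ∈ K4 z q, ∃ x ∈ U, t * x * t = x⁻¹ ∧ x * x = e
  ab : ∀ x ∈ U, ∀ x' ∈ U, t * x * t = x⁻¹ → t * x' * t = x'⁻¹ → Commute x x'

/-- the Sylow 2-subgroup of `C(V)` -/
structure Sy (A O Y U F₁ F₂ : Subgroup G) (t z q y y₂ s₁ s₂ r r' : G) : Prop where
  c : Cf A O Y t z q y y₂ s₁ s₂ r r'
  u : Us U F₁ F₂ t z q s₁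
  UV : U ≤ Cs (K4 y y₂)
  cls : ∀ g, g * t * g⁻¹ ∈ K4 y y₂ ⊔ U ⊔ zpowers t → ∃ a ∈ U, g * t * g⁻¹ = a * t * a⁻¹
  syl : IsSylowIn 2 (K4 y y₂ ⊔ U ⊔ zpowers t : Subgroup G) (Cs (K4 y y₂))

/-- the normal closure of `Y` in `D` -/
def LL (D Y : Subgroup G) : Subgroup G := closure {x | ∃ d ∈ D, ∃ a ∈ Y, x = d * a * d⁻¹}

theorem LL_def (D Y : Subgroup G) :
    LL D Y = closure {x | ∃ d ∈ D, ∃ a ∈ Y, x = d * a * d⁻¹} := LL.eq_1 D Y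

theorem conj_mem_LL {D Y : Subgroup G} {d a : G} (hd : d ∈ D) (ha : a ∈ Y) : d * a * d⁻¹ ∈ LL D Y :=
  subset_closure ⟨d, hd, a, ha, rfl⟩

theorem le_LL {D Y : Subgroup G} : Y ≤ LL D Y := fun a ha => by
  simpa using conj_mem_LL (one_mem D) ha

theorem LL_le {D Y J : Subgroup G} (h1 : Y ≤ J) (h2 : D ≤ Ns J) : LL D Y ≤ J :=
  (closure_le _).2 (by
    rintro _ ⟨d, hd, a, ha, rfl⟩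
    exact mem_normalizer_conj (h2 hd) (h1 ha))

theorem le_Ns_LL [Finite G] {D Y : Subgroup G} : D ≤ Ns (LL D Y) := fun g hg =>
  mem_normalizer_of_cj_le (by
    rw [LL_def, cj_closure]
    refine closure_mono ?_
    rintro _ ⟨_, ⟨d, hd, a, ha, rfl⟩, rfl⟩
    exact ⟨g * d, mul_mem hg hd, a, ha, by group⟩)

theorem LL_perf [Finite G] {D Y : Subgroup G} (h : Y ≤ ⁅Y, Y⁆) : LL D Y ≤ ⁅LL D Y, LL D Y⁆ :=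
  LL_le (h.trans (commutator_mono le_LL le_LL)) fun g hg => cj_eq_self_iff.1 (by
    rw [cj_commutator, cj_eq_of_mem_normalizer (le_Ns_LL hg)])

end Cfsg.Lib.SJ2
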