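import Cfsg.Agent.SJ2.MBas
import Cfsg.Agent.Solv.Factor

/-! The model of `J₂:2`: outer involutions. -/

set_option autoImplicit false
set_option maxRecDepth 100000
set_option exponentiation.threshold 2000

namespace Cfsg.Lib.SJ2.M

open Subgroup Cfsg.Lib.Spor Cfsg.Lib.Spor.Bulk Cfsg.Lib.Spor.PK Cfsg.Lib.Spor.WF
open Cfsg.Lib.Gold Cfsg.Lib.Trans Cfsg.Lib.StdSz Cfsg.Lib.StdW
open Cfsg.Lib.StdM (Cl)
open scoped commutatorElement

/-- a chain -/
def aH : List Cert :=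
    [⟨0, [2560, 3969, 3202, 3011, 4097, 1922, 4928, 194, 5443, 4416, 897, 4353, 1282, 3072, 2754, 5699, 3393, 67,
    2817, 642, 2627, 5184, 4673, 4288, 514, 321, 2880, 3138, 1344, 2946, 2689, 1602, 3587, 1984, 2369, 1856,
    2242, 4162, 3264, 3458, 5635, 5889, 4803, 1665, 961, 2050, 4547, 1537, 3907, 3841, 4482, 4033, 5569, 1027,
    577, 2177, 3776, 5378, 5059, 2114, 1475, 1089, 1410], [[3, 0, 3], [1, 2, 3, 2, 1]]⟩,
     ⟨2, [1152, 2305, 4993], []⟩]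

/-- a chain -/
def aD : List Cert :=
    [⟨0, [5888, 1921, 5376, 1089, 2816, 2112, 3841, 4672, 961, 64, 1537, 1664, 4545, 5632, 3009], []⟩]

/-- a chain -/
def aS : List Cert :=
    [⟨0, [5888, 1921, 3010, 5376, 1089, 1538, 2816, 66, 2112, 3841, 4672, 961, 5634, 1664, 4545], [[1, 0, 0, 0, 2,
    0]]⟩,
     ⟨2, [2304], []⟩]

/-- a chain -/
def aC : List Cert :=
    [⟨0, [5888, 5376, 2112, 64, 5632, 4544, 960], []⟩]

/-- chains -/
def swO : List (List (List ℕ) × List Cert) :=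
  [([[24], [25], [26], [5]], aH), ([[25, 26, 24, 25], [24, 26, 24]], aD), ([[25, 26, 24, 25], [24, 26, 24], [5]], aS), ([[25, 26, 24, 25]], aC), ([[18], [19]], az0),
   ([[24], [25], [26]], aT)]

theorem okO : (jx [] swO).subsOK = true := by decide +kernel

theorem fH : ∀ a ∈ sub g [[24], [25], [26], [5]], a * a = 1 → (∃ b ∈ TT, a = b) ∨
    ∃ h ∈ G0 ⊓ C1 (g 1), h * g 5 = a * h := by
  have := holdsB okO (p := (.all 0 62 (.imp (.eq [62, 62] []) (.or (.ex 5 63 (.eq [62] [63])) (.ex 4 61 (.eq [5, 61] [61, 62]))))))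
    (by decide +kernel)
  rw [cz0.1]
  simpa only [Fm.sem, upd_apply, PM.W, swO, List.getD_cons_zero, List.getD_cons_succ, wv_cons, wv_nil,
    one_mul, Nat.reduceEqDiff, if_true, if_false] using this

theorem fS : (∀ a ∈ sub g [[25, 26, 24, 25], [24, 26, 24], [5]], a * g 5 = g 5 * a) ∧
    (∀ a ∈ sub g [[25, 26, 24, 25]], a * a = 1 → a = 1 ∨ a = g 1) ∧ g 1 * g 5 = g 5 * g 1 ∧
    g 24 * g 26 * g 24 * (g 24 * g 26 * g 24) = 1 ∧ g 24 * g 26 * g 24 ≠ 1 ∧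
    g 1 ≠ g 24 * g 26 * g 24 := by
  have := holdsB okO (p := (.and (.all 2 62 (.eq [5, 62] [62, 5])) (.and (.all 3 62 (.imp (.eq [62, 62] []) (.or (.eq [62] []) (.eq [62] [1])))) (.and (.eq [5, 1] [1, 5]) (.and (.eq [24, 26, 24, 24, 26, 24] []) (.and (.not (.eq [24, 26, 24] [])) (.not (.eq [1] [24, 26, 24]))))))))
    (by decide +kernel)
  simpa only [Fm.sem, upd_apply, PM.W, swO, List.getD_cons_zero, List.getD_cons_succ, wv_cons, wv_nil,
    one_mul, Nat.reduceEqDiff, if_true, if_false, mul_assoc, ne_eq] using this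

theorem w1 (L : List ℕ) : wv g L ∈ G1 := by
  induction L with
  | nil => exact one_mem _
  | cons a L ih => exact mul_mem ih (mem1 a)

theorem syl_of {S K : Subgroup Om} {k m : ℕ} (h : S ≤ K) (c : Nat.card S = 2 ^ k)
    (c' : Nat.card K = 2 ^ k * m) (hm : ¬ 2 ∣ m) : IsSylowIn 2 S K :=
  ⟨h, IsPGroup.of_card c, by
    have := card_mul_relIndex h
    rw [c, c'] at this
    rwa [Nat.eq_of_mul_eq_mul_left (Nat.two_pow_pos k) this]⟩

theorem ocl : ∀ x ∈ G1, x ∉ G0 → x * x = 1 → Cl G0 (g 5) x := fun x hx h0 x2 => by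
  have : Fact (Nat.Prime 2) := ⟨Nat.prime_two⟩
  obtain ⟨c, hc, e⟩ := (syl_of (S := sub g [[24], [25], [26], [5]]) (k := 8) (m := 4725) (sub_le fun L _ => w1 L)
    (PM.card_sub (ok swO) okO 0) card1 (by decide)).exists_cj_le
      (two_zpowers (x := x) (k := 1) (by rw [pow_one, pow_two, x2])) (zpowers_le.2 hx)
  rcases fH _ (e (conj_mem_cj.2 (mem_zpowers x))) (by rw [conj_mul, x2]; group) with
    ⟨b, hb, e1⟩ | ⟨h, hh, e1⟩
  · have e2 := bas.conj_mem (inv_mem hc) (T0 hb)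
    rw [← e1] at e2
    exact absurd (by simpa [mul_assoc] using e2) h0
  have e2 : c⁻¹ * h * g 5 * (c⁻¹ * h)⁻¹ = x := by rw [mul_assoc c⁻¹, e1]; group
  by_cases k : c⁻¹ * h ∈ G0
  · exact ⟨_, k, e2⟩
  · exact ⟨_, idx _ (mul_mem (inv_mem hc) (le01 hh.1)) _ so1 k so0, by rw [← e2]; group⟩

theorem out : Out G1 G0 (g 5) := by
  have : Fact (Nat.Prime 2) := ⟨Nat.prime_two⟩
  obtain ⟨f1, f2, f3, f4, f5, f6⟩ := fS
  have lD : sub g [[25, 26, 24, 25], [24, 26, 24]] ≤ sub g [[25, 26, 24, 25], [24, 26, 24], [5]] :=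
    sub_le fun L hL => wv_mem_sub g (List.mem_append_left [[5]] hL)
  have lC : sub g [[25, 26, 24, 25]] ≤ sub g [[25, 26, 24, 25], [24, 26, 24], [5]] :=
    sub_le fun L hL => wv_mem_sub g (List.mem_append_left [[24, 26, 24], [5]] hL)
  have m : g 24 * g 26 * g 24 ∈ sub g [[25, 26, 24, 25], [24, 26, 24], [5]] := by
    simpa using wv_mem_sub g (W := [[25, 26, 24, 25], [24, 26, 24], [5]]) (L := [24, 26, 24]) (by decide)
  have mT : g 24 * g 26 * g 24 ∈ TT :=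
    mul_mem (mul_mem (tT (by decide)) (tT (by decide))) (tT (by decide))
  have cz : Commute (g 1) (g 24 * g 26 * g 24) := (fT _ mT).1
  have k : ∀ {e}, e ∈ G0 → e * e = 1 → Commute e (g 5) → Cl G0 (g 5) (g 5 * e) := fun h1 h2 h3 =>
    ocl _ (mul_mem so1 (le01 h1)) (fun h => so0 ((mul_mem_cancel_right h1).1 h))
      (by rw [h3.mul_mul_mul_comm, so2, h2, one_mul])
  refine ⟨so1, so0, so2, ocl, ⟨⟨sub g [[25, 26, 24, 25], [24, 26, 24]], le_inf (sub_le fun L hL => w0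
    ((by decide : ∀ L ∈ [[25, 26, 24, 25], [24, 26, 24]], ∀ l ∈ L, l ≠ 5 ∧ l ≠ 21) L hL))
      fun a ha => StdSz.mem_C1.2 (f1 a (lD ha)), PM.card_sub (ok swO) okO 1⟩,
    g 1, T0 zT, _, T0 mT, z2, f4, z1, f5, f6, cz, f3, f1 _ m, ?_⟩, fun E hE e2 => ?_, fun x hx x5 => ?_⟩
  · rintro _ (rfl | rfl | rfl)
    exacts [k (T0 zT) z2 f3, k (T0 mT) f4 (f1 _ m), k (T0 (mul_mem zT mT))
      (by rw [cz.symm.mul_mul_mul_comm, z2, f4, one_mul]) (Commute.mul_left f3 (f1 _ m))]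
  · have cS : Nat.card (sub g [[25, 26, 24, 25], [24, 26, 24], [5]]) = 2 ^ 5 := PM.card_sub (ok swO) okO 2
    have cC : Nat.card (sub g [[25, 26, 24, 25]]) = 8 := PM.card_sub (ok swO) okO 3
    obtain ⟨c, -, e⟩ := (syl_of (k := 5) (m := 21) (le_inf (sub_le fun L _ => w1 L)
      fun a ha => StdSz.mem_C1.2 (f1 a ha)) cS cs.2 (by decide)).exists_cj_le
        (fun x => ⟨1, Subtype.ext (by rw [pow_one, pow_two]; exact e2 x x.2)⟩) hE
    have h1 := Solv.card_mul_card_le_of_le e lC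
    have h2 : cj c E ⊓ sub g [[25, 26, 24, 25]] ≤ zpowers (g 1) := fun x hx => by
      obtain ⟨⟨x, hx', rfl⟩, hx⟩ := hx
      rcases f2 _ hx (show c * x * c⁻¹ * (c * x * c⁻¹) = 1 by rw [conj_mul, e2 x hx']; group) with
        e | e <;> rw [e]
      exacts [one_mem _, mem_zpowers _]
    have h3 := Subgroup.card_le_of_le h2
    rw [Nat.card_zpowers, orderOf_eq_prime (by rw [pow_two, z2]) z1] at h3
    rw [card_cj, cS, cC] at h1
    omega
  · have h1 := orderOf_dvd_natCard (⟨x, hx⟩ : ↥(G0 ⊓ C1 (g 5)))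
    rw [cs0.2, ← orderOf_coe] at h1
    exact orderOf_eq_one_iff.1 (Nat.eq_one_of_dvd_coprimes (by decide : Nat.Coprime 5 336)
      (orderOf_dvd_of_pow_eq_one x5) h1)

end Cfsg.Lib.SJ2.M
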