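import Cfsg.Agent.SJ2.MNb
import Cfsg.Agent.StdX.OutK

/-! The model of `J₂:2`: the Sylow 2-subgroup. -/

set_option autoImplicit false
set_option maxRecDepth 100000
set_option exponentiation.threshold 2000

namespace Cfsg.Lib.SJ2.M

open Subgroup Cfsg.Lib.Spor Cfsg.Lib.Spor.Bulk Cfsg.Lib.Spor.PK Cfsg.Lib.Spor.WF
open Cfsg.Lib.Gold Cfsg.Lib.Trans Cfsg.Lib.StdSz Cfsg.Lib.StdW
open Cfsg.Lib.StdM (Cl)
open scoped commutatorElement

/-- a chain -/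
def aT : List Cert :=
    [⟨0, [2560, 3969, 3202, 4097, 1922, 4928, 194, 4416, 897, 3072, 2754, 3393, 2817, 642, 5184, 4673, 321, 66,
    2880, 3138, 2689, 1602, 1984, 2369, 4162, 3264, 3458, 5889, 961, 2626, 2050, 4482, 1280, 5441, 4033, 1858,
    3584, 1536, 5569, 2177, 3776, 5378, 3904, 2114, 1025, 5632, 1474, 2944, 1665, 4544, 5056, 1409, 5697,
    3010, 4288, 514, 1090, 577, 2241, 4802, 1345, 4354, 3842], [[0, 2, 0, 2, 0]]⟩,
     ⟨2, [1152], []⟩]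

/-- a chain -/
def aQ : List Cert :=
    [⟨0, [2048, 2817, 1090, 2563, 577, 2690, 4547, 1472, 3267, 5377, 1536, 1282, 1664, 1409, 65], [[0, 3, 2, 1]]⟩,
     ⟨2, [1152], []⟩]

/-- a chain -/
def aR : List Cert :=
    [⟨0, [64, 2049, 4418, 4803, 1409, 3202, 5187, 3842, 2883, 2627, 4674, 1603, 3907, 3075, 1859], []⟩]

/-- a chain -/
def aG : List Cert :=
    [⟨0, [5568, 2753, 578, 3072, 2177, 2882, 4864, 2946, 641, 1858, 1729, 3778, 5056, 5442, 1537, 5954, 1088, 4097,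
    192, 4993, 1794, 2304, 2114, 1600, 769, 2498, 4288, 5633, 1218, 3392, 129, 1026, 1984, 3329, 4546, 3906,
    2432, 6145, 4416, 3714, 384, 2049, 3138, 4738, 6080, 833, 3586, 4481, 3201, 2370, 2817, 450, 64, 5506,
    6337, 4800, 705, 6208, 6017, 3458, 5698, 2688, 1281, 4034, 3520, 2561, 5378, 5314, 4672, 5185, 4162, 2240,
    1153, 5121, 5890, 6272, 2624, 961, 4225, 3264, 896, 3649, 1472, 3969, 4352, 320, 4928, 4610, 1346, 5825,
    5760, 256, 3842, 3008, 1922, 5248, 512, 1666, 1408], [[0, 1, 2, 2, 2, 0, 0, 2, 2, 2, 0], [2, 1, 2, 2, 0,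
    1, 0, 0, 2, 1, 2, 0]]⟩,
     ⟨1, [1024, 2369, 192, 1857, 6080, 1537, 2817, 3840, 3777, 2560, 4225, 2304, 3009, 5120, 5505, 3904, 3969,
    3457, 4289, 768, 2049, 3328, 961, 2496, 3393, 5248, 6209, 5696, 1664, 1793, 4737, 5185, 1601, 6144, 4033,
    1280, 2433, 1216, 3585, 2881, 4160, 897, 3137, 1344, 4865, 4608, 4673, 4993, 5952, 4481, 1409, 5313, 2752,
    1152, 128, 3201, 1088, 6337, 3072, 5888, 704, 2240], [[1, 1, 0, 1, 0, 1, 1, 1, 1, 0], [0, 0, 1, 0, 1, 1,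
    0, 0, 1, 0, 1]]⟩,
     ⟨2, [1344, 3904, 5889, 1152, 4993, 3008, 705, 192, 5184, 3969, 960, 1024, 4033, 4288, 2305, 3584, 3200, 769,
    3392, 3456, 896, 4160, 5696], [[0, 1, 1, 1]]⟩,
     ⟨3, [4992, 3008, 960], []⟩]

/-- chains -/
def swB : List (List (List ℕ) × List Cert) :=
  [([[24], [25], [26]], aT), ([[18], [19], [5]], az), ([[6], [18, 18, 18, 18, 6, 18], [18, 18, 18, 6, 18, 18], [18, 18, 6, 18, 18, 18]], aQ), ([[1], [6], [7], [8]], aR), ([[18], [19]], az0)]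

theorem okB : (jx [] swB).subsOK = true := by decide +kernel

theorem w0 {L : List ℕ} (h : ∀ l ∈ L, l ≠ 5 ∧ l ≠ 21) : wv g L ∈ G0 := by
  induction L with
  | nil => exact one_mem _
  | cons a L ih =>
    exact mul_mem (ih fun l hl => h l (.tail _ hl)) (mem0 (h a (.head _)).1 (h a (.head _)).2)

theorem T0 : TT ≤ G0 := sub_le fun L hL => w0 ((by decide : ∀ L ∈ [[24], [25], [26]], ∀ l ∈ L, l ≠ 5 ∧ l ≠ 21) L hL)

theorem cardT : Nat.card TT = 2 ^ 7 := PM.card_sub (ok swB) okB 0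

theorem memT {xs : List (List ℕ)} (d : memC (jx [] []) [[24], [25], [26]] aT 128 xs = true) :
    ∀ x ∈ xs, wv g x ∈ TT := mem_of (ok []) cardT.le d

theorem memT' : ∀ x ∈ [[1], [6], [7], [8]] ++ [[6], [18, 18, 18, 18, 6, 18], [18, 18, 18, 6, 18, 18], [18, 18, 6, 18, 18, 18]], wv g x ∈ TT := memT (by decide +kernel)

theorem zT : g 1 ∈ TT := by simpa using memT' [1] (by decide)

theorem qT : g 6 ∈ TT := by simpa using memT' [6] (by decide)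

theorem yT : g 7 ∈ TT := by simpa using memT' [7] (by decide)

theorem y₂T : g 8 ∈ TT := by simpa using memT' [8] (by decide)

theorem tT {l : ℕ} (h : [l] ∈ [[24], [25], [26]]) : g l ∈ TT := by simpa using wv_mem_sub g h

theorem fT : ∀ x ∈ TT, g 1 * x = x * g 1 ∧ (∃ a ∈ sub g [[6], [18, 18, 18, 18, 6, 18], [18, 18, 18, 6, 18, 18], [18, 18, 6, 18, 18, 18]], x * x = a) ∧
    (x * g 7 = g 7 * x → ∃ a ∈ sub g [[1], [6], [7], [8]], x = a) := by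
  have := holdsB okB (p := (.all 0 60 (.and (.eq [60, 1] [1, 60]) (.and (.ex 2 62 (.eq [60, 60] [62])) (.imp (.eq [7, 60] [60, 7]) (.ex 3 62 (.eq [60] [62])))))))
    (by decide +kernel)
  simpa only [Fm.sem, upd_apply, PM.W, swB, List.getD_cons_zero, List.getD_cons_succ, wv_cons, wv_nil,
    one_mul, Nat.reduceEqDiff, if_true, if_false] using this

theorem fR : ∀ x ∈ sub g [[1], [6], [7], [8]], x * x = 1 ∧ x * g 7 = g 7 * x := by
  have := holdsB okB (p := (.all 3 60 (.and (.eq [60, 60] []) (.eq [7, 60] [60, 7]))))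
    (by decide +kernel)
  simpa [Fm.sem, upd_apply, PM.W, swB] using this

theorem fC : ∀ x ∈ G1 ⊓ C1 (g 1), x * (g 24 * g 25 * g 24 * g 25) = g 24 * g 25 * g 24 * g 25 * x →
    x * (g 24 * g 26 * g 24 * g 26) = g 24 * g 26 * g 24 * g 26 * x →
    x * (g 25 * g 26 * g 25 * g 26) = g 25 * g 26 * g 25 * g 26 * x →
    x = 1 ∨ x = g 1 ∨ (x = g 6 ∨ x = g 1 * g 6) ∧ ¬ (x * g 24 = g 24 * x ∧ x * g 25 = g 25 * x ∧
      x * g 26 = g 26 * x) := by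
  have := holdsB okB (p := (.all 1 60 (.imp (.eq [25, 24, 25, 24, 60] [60, 25, 24, 25, 24]) (.imp (.eq [26, 24, 26, 24, 60] [60, 26, 24, 26, 24]) (.imp (.eq [26, 25, 26, 25, 60] [60, 26, 25, 26, 25]) (.or (.eq [60] []) (.or (.eq [60] [1]) (.and (.or (.eq [60] [6]) (.eq [60] [6, 1])) (.not (.and (.eq [24, 60] [60, 24]) (.and (.eq [25, 60] [60, 25]) (.eq [26, 60] [60, 26]))))))))))))
    (by decide +kernel)
  rw [cz.1]
  simpa only [Fm.sem, upd_apply, PM.W, swB, List.getD_cons_zero, List.getD_cons_succ, wv_cons, wv_nil,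
    one_mul, Nat.reduceEqDiff, if_true, if_false, mul_assoc] using this

theorem fW : g 24 * g 24 = 1 ∧ g 25 * g 25 = 1 ∧ g 26 * g 26 = 1 ∧ g 6 * g 6 = 1 ∧ g 7 * g 7 = 1 ∧
    g 18 * g 18 * g 18 * g 18 * g 18 = 1 ∧ g 9 * g 9 * g 9 = 1 ∧
    g 24 * g 25 * g 24 * g 25 * g 24 = g 1 * g 24 * g 24 * g 25 * g 24 * g 25 ∧
    g 24 * g 25 * g 24 * g 25 * g 26 = g 6 * g 26 * g 24 * g 25 * g 24 * g 25 ∧
    g 9 * g 1 = g 6 * g 9 ∧ g 10 * g 7 = g 8 * g 10 ∧ g 10 * g 8 = g 7 * g 8 * g 10 ∧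
    g 6 ≠ 1 ∧ g 6 ≠ g 1 ∧ g 7 ≠ 1 ∧ g 8 ≠ 1 ∧ g 8 ≠ g 7 ∧
    ∀ u, u = g 1 ∨ u = g 6 ∨ u = g 1 * g 6 →
      (∃ h ∈ G0 ⊓ C1 (g 1), h * g 7 = g 7 * u * h) ∧ g 8 ≠ u ∧ g 8 ≠ g 7 * u := by
  have := holdsB okB (p := (.and (.eq [24, 24] []) (.and (.eq [25, 25] []) (.and (.eq [26, 26] []) (.and (.eq [6, 6] []) (.and (.eq [7, 7] []) (.and (.eq [18, 18, 18, 18, 18] []) (.and (.eq [9, 9, 9] []) (.and (.eq [24, 25, 24, 25, 24] [25, 24, 25, 24, 24, 1]) (.and (.eq [26, 25, 24, 25, 24] [25, 24, 25, 24, 26, 6]) (.and (.eq [1, 9] [9, 6]) (.and (.eq [7, 10] [10, 8]) (.and (.eq [8, 10] [10, 8, 7]) (.and (.not (.eq [6] [])) (.and (.not (.eq [6] [1])) (.and (.not (.eq [7] [])) (.and (.not (.eq [8] [])) (.and (.not (.eq [8] [7])) (.and (.and (.ex 4 61 (.eq [7, 61] [61, 1, 7])) (.and (.not (.eq [8] [1])) (.not (.eq [8] [1, 7])))) (.and (.and (.ex 4 61 (.eq [7, 61] [61, 6, 7])) (.and (.not (.eq [8]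 [6])) (.not (.eq [8] [6, 7])))) (.and (.ex 4 61 (.eq [7, 61] [61, 6, 1, 7])) (.and (.not (.eq [8] [6, 1])) (.not (.eq [8] [6, 1, 7]))))))))))))))))))))))))
    (by decide +kernel)
  rw [cz0.1]
  simpa only [Fm.sem, upd_apply, PM.W, swB, List.getD_cons_zero, List.getD_cons_succ, wv_cons, wv_nil,
    one_mul, Nat.reduceEqDiff, if_true, if_false, mul_assoc, ne_eq, forall_eq_or_imp, forall_eq]
    using this

theorem RT : TT ⊓ C1 (g 7) = sub g [[1], [6], [7], [8]] :=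
  le_antisymm (fun x hx => by
    obtain ⟨a, ha, rfl⟩ := (fT x hx.1).2.2 (StdSz.mem_C1.1 hx.2)
    exact ha) (le_inf (sub_le fun L hL => memT' L (List.mem_append_left _ hL))
      fun x hx => StdSz.mem_C1.2 (fR x hx).2)

theorem lk : TT ⊓ C1 (g 7) = K4 (g 1) (g 6) ⊔ K4 (g 7) (g 8) := by
  have m : ∀ l, [l] ∈ [[1], [6], [7], [8]] → g l ∈ sub g [[1], [6], [7], [8]] := fun l h => by simpa using wv_mem_sub g h
  rw [RT]
  refine le_antisymm (sub_le fun L hL => ?_) (sup_le (K4_le.2 ⟨m 1 (by decide), m 6 (by decide)⟩)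
    (K4_le.2 ⟨m 7 (by decide), m 8 (by decide)⟩))
  simp only [List.mem_cons, List.not_mem_nil, or_false] at hL
  rcases hL with rfl | rfl | rfl | rfl <;> rw [wv_cons, wv_nil, one_mul]
  exacts [mem_sup_left (l_K4 _ _), mem_sup_left (r_K4 _ _), mem_sup_right (l_K4 _ _),
    mem_sup_right (r_K4 _ _)]

theorem sylT : IsSylowIn 2 TT G0 := ⟨T0, IsPGroup.of_card cardT, fun h => by
  have := card_mul_relIndex T0
  rw [cardT, card0] at this
  omega⟩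

theorem bas : Bas G1 G0 TT (g 1) (g 7) 7 := by
  have : Fact (Nat.Prime 2) := ⟨Nat.prime_two⟩
  obtain ⟨t1, t2, t3, q2, y2, p5, s3, ez, eq, sz, sy, sy₂, q1, qz, y1, y₂1, y₂y, wd⟩ := fW
  have h1 := tT (l := 24) (by decide)
  have h2 := tT (l := 25) (by decide)
  have h3 := tT (l := 26) (by decide)
  have zc : g 1 ∈ Cs TT := StdSz.mem_Cs.2 fun x hx => (fT x hx).1
  have cm : ∀ {a b : Om}, a * a = 1 → b * b = 1 → ⁅a, b⁆ = a * b * a * b := fun e e' => by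
    rw [commutatorElement_def, inv_eq_of_mul_eq_one_right e, inv_eq_of_mul_eq_one_right e']
  have cz' : ⁅⁅g 24, g 25⁆, g 24⁆ = g 1 := by rw [cm t1 t2, commutatorElement_def, ez]; group
  have cq : ⁅⁅g 24, g 25⁆, g 26⁆ = g 6 := by rw [cm t1 t2, commutatorElement_def, eq]; group
  have c12 := commutator_mem_commutator h1 h2
  have zd : g 1 ∈ ⁅TT, TT⁆ := cz' ▸ commutator_mem_commutator (commutator_le_self _ c12) h1
  have fc : ∀ x ∈ G1 ⊓ Cs ⁅TT, TT⁆, x = 1 ∨ x = g 1 ∨ (x = g 6 ∨ x = g 1 * g 6) ∧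
      ¬ (x * g 24 = g 24 * x ∧ x * g 25 = g 25 * x ∧ x * g 26 = g 26 * x) := fun x hx =>
    fC x ⟨hx.1, StdSz.mem_C1.2 (StdSz.mem_Cs.1 hx.2 _ zd)⟩ (cm t1 t2 ▸ StdSz.mem_Cs.1 hx.2 _ c12)
      (cm t1 t3 ▸ StdSz.mem_Cs.1 hx.2 _ (commutator_mem_commutator h1 h3))
      (cm t2 t3 ▸ StdSz.mem_Cs.1 hx.2 _ (commutator_mem_commutator h2 h3))
  have czq : Commute (g 1) (g 6) := (fT _ qT).1
  have fk : G1 ⊓ Cs ⁅TT, TT⁆ ≤ K4 (g 1) (g 6) := fun x hx =>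
    (mem_K4 z2 q2 czq).2 ((fc x hx).imp_right (Or.imp_right And.left))
  have s₂ := mem0 (l := 10) (by decide) (by decide)
  have qR : g 6 ∈ TT ⊓ C1 (g 7) := lk ▸ mem_sup_left (r_K4 _ _)
  have yR : g 8 ∈ TT ⊓ C1 (g 7) := lk ▸ mem_sup_right (r_K4 _ _)
  refine ⟨le01, idx, simple, aut, T0, cardT, fun Q hQ h => cardT ▸ sylT.card_le h hQ, rfl, zT, z2, z1,
    zc, fun x hx => ?_, zd, yT, y2, y1, fun a ha a2 => ?_, sub_le fun L hL => ?_,
    commutator_le.2 fun a ha b hb => ?_, fun a ha b hb => ?_, fk.trans (K4_le.2 ⟨zT, qT⟩),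
    ⟨g 6, cq ▸ commutator_mem_commutator (commutator_le_self _ c12) h3, qz, clq⟩,
    ⟨_, h1, _, h2, _, h3, cq.symm ▸ q1, ?_⟩, by rw [RT]; exact PM.card_sub (ok swB) okB 3,
    fun Q hQ h => Nat.le_of_lt_succ (StdX.OutK.bound_card (m := 15) (M := 240) (by decide)
      (by rw [cy0.2]; decide) cy0.2.le (by decide) Q hQ h), fun a ha => (fR a (RT ▸ ha)).1, cl3,
    g 6, qR, g 8, yR, q1, qz, y₂1, y₂y, cl_of s₂ sy, cl_trans (cl_of s₂ sy) (cl_of s₂ sy₂),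
    fun u hu => ⟨let ⟨_, hh, e⟩ := (wd u hu).1; cl_of hh.1 e, (wd u hu).2⟩⟩
  · rcases fc x ⟨hx.1, StdJ4.Cs_anti (commutator_le_self _) hx.2⟩ with rfl | rfl | ⟨-, e⟩
    exacts [one_mem _, mem_zpowers _, absurd ⟨StdSz.mem_Cs.1 hx.2 _ h1, StdSz.mem_Cs.1 hx.2 _ h2,
      StdSz.mem_Cs.1 hx.2 _ h3⟩ e]
  · obtain ⟨c, hc, e⟩ := sylT.exists_cj_le (two_zpowers (x := a) (k := 1) (by rw [pow_one, pow_two, a2]))
      (zpowers_le.2 ha)
    have m := e (conj_mem_cj.2 (mem_zpowers a))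
    have k : Cl G0 (c * a * c⁻¹) a := cl_symm ⟨c, hc, rfl⟩
    rcases inv_cz _ ⟨T0 m, StdSz.mem_C1.2 (fT _ m).1.symm⟩ (by rw [conj_mul, a2]; group) with
      e | e | ⟨h, hh, e | e⟩
    exacts [.inl (conj_eq_one_iff.1 e), .inr (.inl (e ▸ k)),
      .inr (.inl (cl_trans clq (cl_trans (cl_of hh.1 e) k))), .inr (.inr (cl_trans (cl_of hh.1 e) k))]
  · refine subset_closure ⟨wv_mem_sub g hL, ?_⟩
    simp only [List.mem_cons, List.not_mem_nil, or_false] at hL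
    rcases hL with rfl | rfl | rfl <;> rw [wv_cons, wv_nil, one_mul]
    exacts [t1, t2, t3]
  · have p₁ := mem0 (l := 18) (by decide) (by decide)
    have l : sub g [[6], [18, 18, 18, 18, 6, 18], [18, 18, 18, 6, 18, 18], [18, 18, 6, 18, 18, 18]] ≤ closure {a | a ∈ TT ∧ Cl G0 (g 1) a} :=
      sub_le fun L hL => subset_closure ⟨memT' L (List.mem_append_right _ hL), cl_trans clq (by
        simp only [List.mem_cons, List.not_mem_nil, or_false] at hL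
        rcases hL with rfl | rfl | rfl | rfl <;> simp only [wv_cons, wv_nil, one_mul]
        · exact ⟨1, one_mem _, by group⟩
        · exact cl_of p₁ (by simp only [mul_assoc] at p5 ⊢; rw [p5, mul_one])
        · exact cl_of (mul_mem p₁ p₁) (by simp only [mul_assoc] at p5 ⊢; rw [p5, mul_one])
        · exact cl_of (mul_mem p₁ (mul_mem p₁ p₁)) (by simp only [mul_assoc] at p5 ⊢; rw [p5, mul_one]))⟩
    have sq : ∀ x ∈ TT, x * x ∈ closure {a | a ∈ TT ∧ Cl G0 (g 1) a} := fun x hx =>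
      let ⟨_, hc, e⟩ := (fT x hx).2.1
      e ▸ l hc
    rw [show ⁅a, b⁆ = a * a * (a⁻¹ * b * (a⁻¹ * b)) * (b⁻¹ * b⁻¹) by rw [commutatorElement_def]; group]
    exact mul_mem (mul_mem (sq a ha) (sq _ (mul_mem (inv_mem ha) hb))) (sq _ (inv_mem hb))
  · have k : K4 (g 1) (g 6) ≤ Cs (K4 (g 1) (g 6)) := le_Cs_of_sq (fun x hx => by
      refine (fR x ?_).1
      rw [← RT, lk]; exact mem_sup_left hx) le_rfl
    exact StdSz.mem_Cs.1 (k (fk ⟨le01 (T0 ha.1), ha.2⟩)) b (fk ⟨le01 (T0 hb.1), hb.2⟩)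
  · rw [cq]
    have l : sub g [[18], [19], [9, 9, 18, 9]] ≤ G0 :=
      sub_le fun L hL => w0 ((by decide : ∀ L ∈ [[18], [19], [9, 9, 18, 9]], ∀ l ∈ L,
        l ≠ 5 ∧ l ≠ 21) L hL)
    refine (ge_of_card l (card0.le.trans (low (a := aG) (by decide +kernel)))).trans
      (sub_le fun L hL => ?_)
    rcases List.mem_append.1 (show L ∈ [[18], [19]] ++ [[9, 9, 18, 9]] from hL) with e | e
    · exact mem_sup_left (cz0.1 ▸ wv_mem_sub g e)
    · refine mem_sup_right ⟨l (wv_mem_sub g hL), StdSz.mem_C1.2 ?_⟩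
      have c := commute_conj (StdSz.mem_C1.1 (cz0.1.ge (wv_mem_sub g (L := [18]) (by decide))).2) (g 9)
      rw [mul_inv_eq_iff_eq_mul.2 sz, inv_eq_of_mul_eq_one_left s3] at c
      simpa [List.mem_singleton.1 e, mul_assoc] using c

end Cfsg.Lib.SJ2.M
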