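import Cfsg.Agent.SJ2.Dat
import Cfsg.Agent.StdX.VGen
import Cfsg.Agent.SporChar.WFormAct

/-! Automorphisms of the centraliser of a central involution of `J₂`. -/

set_option autoImplicit false
set_option maxRecDepth 100000

namespace Cfsg.Lib.SJ2.M

open Subgroup Cfsg.Lib.Spor Cfsg.Lib.Spor.Bulk Cfsg.Lib.Spor.PK Cfsg.Lib.Spor.WF
open Cfsg.Lib.Trans Cfsg.Lib.StdSz Cfsg.Lib.StdW
open Cfsg.Lib.Gold hiding mem_Cs mem_C1
open Cfsg.Lib.StdX (VG)
open scoped commutatorElement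

namespace VGa

/-- chains -/
def sw : List (List (List ℕ) × List Cert) :=
  [([[18], [19]],
    [⟨0, [5568, 2753, 3072, 2177, 4864, 2880, 1729, 5056, 1088, 4097, 1537, 3392, 129, 4416, 640, 2112, 3328, 2688,
    2624, 961, 2304, 577, 4480, 3201, 5441, 3008, 897, 449, 3136, 2048, 320, 3904, 1984, 4160, 4673, 2816,
    3649, 5632, 193, 1152, 3265, 2240, 3520, 2561, 512, 3968, 1601, 1408, 3777, 384, 1920, 4608, 65, 5376,
    1024, 4737, 768, 5888, 4288, 3585, 2944, 3841, 1664, 5697, 4032, 4801, 4992, 1281, 1472, 1857, 2369, 705,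
    4352, 1344, 3457, 256, 4544, 4928, 5185], [[0, 0, 0, 1, 0, 0, 0, 1, 0, 1, 0, 1, 0, 0, 1, 0, 1, 0], [0, 1,
    0, 0, 1, 0, 0, 0, 1]]⟩,
     ⟨2, [4032, 3457, 1152, 3969, 2304, 4161, 5888, 961, 896, 705, 3201, 1344, 3905, 4992, 4289, 193, 768, 5697,
    3393, 1024, 3009, 5185, 3584], []⟩])]

theorem sw_ok : (jx [] sw).subsOK = true := by decide +kernel

/-- a power of a word -/
def pw (n : ℕ) (L : List ℕ) : List ℕ := (List.replicate n L).flatten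

/-- relations -/
def rel : List (List ℕ) := [pw 2 [60], pw 5 [60, 18], pw 6 [60, 18, 18],
  pw 4 [60, 18, 18, 18, 18, 60, 18, 18, 60, 18]]

/-- words that are not relations -/
def nrel : List (List ℕ) := [pw 2 [60, 18, 18], pw 3 [60, 18, 18],
  pw 2 [60, 18, 18, 18, 18, 60, 18, 18, 60, 18]]

/-- the type of a second generator -/
def fT : Fm := .and (andL rel fun L => .eq L []) (andL nrel fun L => .not (.eq L []))

/-- elements normalising the first generator -/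
def qs : List (ℕ × List ℕ) := [(1, []), (2, [19, 18, 18, 19, 18, 5, 19]), (3, [19, 18, 19, 18, 18, 5]), (4, [5, 19, 5, 19, 5, 19, 5])]

/-- equations -/
def eqs : List (List ℕ × List ℕ) :=
  [([1, 9], [9, 6]), ([6, 9], [9, 1, 6]), ([7, 9], [9, 7]), ([8, 9], [9, 8]),
   ([1, 5, 17, 5], [5, 17, 5, 1, 6]), ([6, 5, 17, 5], [5, 17, 5, 1]), ([7, 5, 17, 5], [5, 17, 5, 7]),
   ([8, 5, 17, 5], [5, 17, 5, 8]), ([1, 17], [17, 5, 6, 5, 1]), ([1, 6], [6, 1]), ([1, 7], [7, 1]),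
   ([1, 8], [8, 1]), ([1, 5], [5, 1]), ([18, 18, 18, 18, 18], []),
   ([18, 18, 18, 19, 18, 19, 18, 18] ++ [19, 18, 19, 18, 19, 18, 18, 19],
     [19, 18, 19, 18, 19, 18, 18, 19] ++ [18, 18, 18, 19, 18, 19, 18, 18] ++ [18]),
   ([18, 19, 18, 18] ++ [18, 18, 19, 18, 19], [18, 18, 19, 18, 19] ++ [18, 19, 18, 18] ++ [19])]

theorem ck1 : (Fm.all 0 60 (.imp fT (orL [0, 1, 2, 3, 4] fun i =>
    .eq (List.replicate i 18 ++ [60]) (19 :: List.replicate i 18)))).sem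
    (fun i => sub g ((jx [] sw).W i)) g := holdsB sw_ok (by decide +kernel)

theorem ck2 : (Fm.and (.bind 60 [19] fT) (.and (andL eqs fun p => .eq p.1 p.2) (.and (.not (.eq [18] []))
    (andL qs fun p => .eq (18 :: p.2) (p.2 ++ List.replicate p.1 18))))).sem
    (fun i => sub g ((jx [] sw).W i)) g := holdsB sw_ok (by decide +kernel)

theorem wv_rep {Ω : Type*} [Group Ω] (e : ℕ → Ω) (n l : ℕ) : wv e (List.replicate n l) = e l ^ n := by
  induction n with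
  | zero => simp
  | succ n ih => rw [List.replicate_succ, wv_cons, ih, pow_succ]

theorem N1 : G1 ≤ Ns G0 := sup1 ▸ sup_le (zpowers_le.2 so_Ns) le_normalizer

theorem cmm {x y : Om} (hx : x ∈ G1) (hy : y ∈ G1) : ⁅x, y⁆ ∈ G0 := by
  rw [commutatorElement_def]
  by_cases h : y ∈ G0
  · exact mul_mem (mem_normalizer_conj (N1 hx) h) (inv_mem h)
  · refine idx _ (mul_mem (mul_mem hx hy) (inv_mem hx)) _ (inv_mem hy) (fun e => h ?_)
      fun e => h (inv_mem_iff.1 e)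
    simpa [mul_assoc] using mem_normalizer_conj (N1 (inv_mem hx)) e

theorem aut (φ : MulAut ↥(G0 ⊓ C1 (g 1))) :
    ∃ c ∈ G1 ⊓ C1 (g 1), ∀ x : ↥(G0 ⊓ C1 (g 1)), (φ x : Om) = c * x * c⁻¹ := by
  obtain ⟨hT, hE, h1, hq⟩ := ck2
  simp only [sem_andL, Fm.sem] at hE hq
  have mD : ∀ l, [l] ∈ [[18], [19]] → g l ∈ G0 ⊓ C1 (g 1) := fun l h =>
    cz0.1 ▸ one_mul (g l) ▸ (wv_mem_sub g h :)
  have DK : G0 ⊓ C1 (g 1) ≤ G1 ⊓ C1 (g 1) := inf_le_inf_right _ le01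
  set a : ↥(G0 ⊓ C1 (g 1)) := ⟨g 18, mD 18 (by decide)⟩ with ha
  set b : ↥(G0 ⊓ C1 (g 1)) := ⟨g 19, mD 19 (by decide)⟩ with hb
  have a1 : a ≠ 1 := fun e => h1 ((one_mul _).trans (congrArg Subtype.val e))
  have a5 : a ^ 5 = 1 := Subtype.ext ((wv_rep g 5 18).symm.trans (hE ([18, 18, 18, 18, 18], []) (by decide)))
  obtain ⟨c, i, i0, i5, e⟩ := StdX.conj_pow_of_sylow (p := 5) (by decide) (by rw [cz0.2]; decide) a1 a5
    (s := φ a) (by simpa using a1) (by rw [← map_pow, a5, map_one])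
  obtain ⟨p, hp, rfl, hl⟩ : ∃ p ∈ qs, p.1 = i ∧ ∀ l ∈ p.2, [l] ∈ [[18], [19], [5]] := by
    interval_cases i <;> decide
  have pK : wv g p.2 ∈ G1 ⊓ C1 (g 1) := cz.1 ▸ wv_mem _ fun l h =>
    one_mul (g l) ▸ (wv_mem_sub g (hl l h) :)
  have ep := hq p hp
  rw [wv_cons, wv_append, wv_rep] at ep
  obtain ⟨u, uK, eu⟩ : ∃ u ∈ G1 ⊓ C1 (g 1), u⁻¹ * φ a * u = g 18 :=
    ⟨c * wv g p.2, mul_mem (DK c.2) pK, by
      rw [e, Subgroup.coe_mul, Subgroup.coe_mul, Subgroup.coe_pow, ← mul_inv_eq_iff_eq_mul.2 ep]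
      simp [mul_assoc]⟩
  let θ : ↥(G0 ⊓ C1 (g 1)) →* Om :=
    ((MulAut.conj u⁻¹).toMonoidHom.comp (G0 ⊓ C1 (g 1)).subtype).comp φ.toMonoidHom
  have θe : ∀ x, θ x = u⁻¹ * φ x * u := fun x => by simp [θ]
  have θi : Function.Injective θ :=
    ((MulAut.conj u⁻¹).injective.comp Subtype.val_injective).comp φ.injective
  have bD : θ b ∈ G0 ⊓ C1 (g 1) := θe b ▸ mem_inf.2 ⟨by
    simpa using mem_normalizer_conj (N1 (inv_mem uK.1)) (φ b).2.1,
    mul_mem (mul_mem (inv_mem (mem_inf.1 uK).2) (mem_inf.1 (φ b).2).2) (mem_inf.1 uK).2⟩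
  have tr : ∀ L : List ℕ, (∀ l ∈ L, l = 18 ∨ l = 60) →
      (wv (upd g 60 (θ b)) L = 1 ↔ wv (upd g 60 (wv g [19])) L = 1) := fun L hL => by
    have e1 : wv (upd g 60 (θ b)) L = θ (wv (upd (fun _ => a) 60 b) L) := by
      rw [← wv_map]
      exact wv_congr fun l hl => by
        rcases hL l hl with rfl | rfl
        exacts [(eu.symm.trans (θe a).symm :), rfl]
    have e2 : wv (upd g 60 (wv g [19])) L =
        (G0 ⊓ C1 (g 1)).subtype (wv (upd (fun _ => a) 60 b) L) := by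
      rw [← wv_map]
      exact wv_congr fun l hl => by
        rcases hL l hl with rfl | rfl
        exacts [rfl, one_mul _]
    rw [e1, e2, map_eq_one_iff _ θi, map_eq_one_iff _ (subtype_injective _)]
  obtain ⟨t1, t2⟩ := hT
  obtain ⟨j, -, ej⟩ := sem_orL.1 (ck1 (θ b) (cz0.1.le bD) ⟨sem_andL.2 fun L hL =>
    (tr L ((by decide : ∀ L ∈ rel, ∀ l ∈ L, l = 18 ∨ l = 60) L hL)).2 (sem_andL.1 t1 L hL),
    sem_andL.2 fun L hL e => sem_andL.1 t2 L hL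
      ((tr L ((by decide : ∀ L ∈ nrel, ∀ l ∈ L, l = 18 ∨ l = 60) L hL)).1 e)⟩)
  simp only [Fm.sem, wv_append, wv_cons, wv_nil, one_mul, wv_rep, upd_apply, Nat.reduceEqDiff,
    ↓reduceIte, θe] at ej
  refine ⟨u * g 18 ^ j, mul_mem uK (pow_mem (DK a.2) _), fun ⟨x, hx⟩ => ?_⟩
  let f := (G0 ⊓ C1 (g 1)).subtype.comp φ.toMonoidHom
  let f' := (MulAut.conj (u * g 18 ^ j)).toMonoidHom.comp (G0 ⊓ C1 (g 1)).subtype
  obtain ⟨y, hy, rfl⟩ := (cz0.1.le.trans (sub_le (H := (f.eqLocus f').map (G0 ⊓ C1 (g 1)).subtype) (by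
    simp only [List.forall_mem_cons, wv_cons, wv_nil, one_mul]
    refine ⟨⟨a, ?_, rfl⟩, ⟨b, ?_, rfl⟩, by simp⟩
    · show (φ a : Om) = u * g 18 ^ j * g 18 * (u * g 18 ^ j)⁻¹
      rw [show u * g 18 ^ j * g 18 * (u * g 18 ^ j)⁻¹ = u * g 18 * u⁻¹ by group, ← eu]; group
    · show (φ b : Om) = u * g 18 ^ j * g 19 * (u * g 18 ^ j)⁻¹
      rw [mul_assoc u, ← ej]; group))) hx
  exact hy

end VGa

open VGa in
theorem vg : VG G1 G0 (G0 ⊓ C1 (g 1)) (K4 (g 1) (g 6) ⊔ K4 (g 7) (g 8)) (g 1) (g 5) (g 9) (g 17) := by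
  obtain ⟨-, hE, -⟩ := ck2
  simp only [sem_andL, Fm.sem, eqs, List.forall_mem_cons, wv_append] at hE
  obtain ⟨e1, e2, e3, e4, e5, e6, e7, e8, e9, c6, c7, c8, c5, -, p1, p2, -⟩ := hE
  simp only [wv_cons, wv_nil, one_mul] at e1 e2 e3 e4 e5 e6 e7 e8 e9 c6 c7 c8 c5
  have eV : K4 (g 1) (g 6) ⊔ K4 (g 7) (g 8) = sub g [[1], [6], [7], [8]] := by
    rw [K4_def, K4_def, ← Subgroup.closure_union, sub, gen]; congr 1; ext x; simp; tauto
  have mV : ∀ l, [l] ∈ [[1], [6], [7], [8]] → g l ∈ sub g [[1], [6], [7], [8]] := fun l h =>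
    one_mul (g l) ▸ (wv_mem_sub g h :)
  have v1 := mV 1 (by decide)
  have v6 := mV 6 (by decide)
  have v7 := mV 7 (by decide)
  have v8 := mV 8 (by decide)
  have nV : ∀ {m : Om}, (∀ L ∈ [[1], [6], [7], [8]], m * wv g L * m⁻¹ ∈ sub g [[1], [6], [7], [8]]) →
      m ∈ Ns (sub g [[1], [6], [7], [8]]) := fun {m} h => mem_normalizer_fintype fun x hx =>
    sub_le (H := (sub g [[1], [6], [7], [8]]).comap (MulAut.conj m).toMonoidHom) h hx
  have wD : ∀ L : List ℕ, (∀ l ∈ L, [l] ∈ [[18], [19]]) → wv g L ∈ G0 ⊓ C1 (g 1) := fun L h =>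
    cz0.1 ▸ wv_mem _ fun l hl => one_mul (g l) ▸ (wv_mem_sub g (h l hl) :)
  have cm : ∀ {A B : List ℕ} {x : Om}, (∀ l ∈ A, [l] ∈ [[18], [19]]) → (∀ l ∈ B, [l] ∈ [[18], [19]]) →
      wv g A * wv g B = x * (wv g B * wv g A) → x ∈ ⁅G0 ⊓ C1 (g 1), G0 ⊓ C1 (g 1)⁆ :=
    fun {A B x} hA hB e => by
      have := commutator_mem_commutator (wD A hA) (wD B hB)
      rwa [commutatorElement_def, e, show x * (wv g B * wv g A) * (wv g A)⁻¹ * (wv g B)⁻¹ = x by group]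
        at this
  rw [eV]
  refine ⟨le_rfl, cz0.1.le.trans (sub_le ?_), commutator_le.2 fun x hx y hy =>
    mem_inf.2 ⟨cmm hx.1 hy.1, ?_⟩,
    VGa.aut, ⟨so1, mem_C1.2 c5⟩, so0, sub_le ?_, v1, ge_of_card (K := G0 ⊓ Cs _)
      (inf_le_inf_right _ le01) (((cen1 (c := 16) (by decide +kernel)).trans
        (cen0 (by decide +kernel)).symm).le) |>.trans inf_le_left,
    ⟨mem0 (by decide) (by decide), nV ?_⟩, mem_inf.2 ⟨mem0 (by decide) (by decide), ?_⟩, ?_⟩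
  · simp only [List.forall_mem_cons]
    exact ⟨cm (by decide) (by decide) p1, cm (by decide) (by decide) p2, by simp⟩
  · rw [commutatorElement_def]
    have a := (mem_inf.1 hx).2
    have b := (mem_inf.1 hy).2
    exact mul_mem (mul_mem (mul_mem a b) (inv_mem a)) (inv_mem b)
  · simp only [List.forall_mem_cons, wv_cons, wv_nil, one_mul]
    exact ⟨⟨mem0 (by decide) (by decide), mem_C1.2 (.refl _)⟩, ⟨mem0 (by decide) (by decide), mem_C1.2 c6⟩,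
      ⟨mem0 (by decide) (by decide), mem_C1.2 c7⟩, ⟨mem0 (by decide) (by decide), mem_C1.2 c8⟩, by simp⟩
  · simp only [List.forall_mem_cons, wv_cons, wv_nil, one_mul, e1, e2, e3, e4, mul_inv_cancel_right]
    exact ⟨v6, mul_mem v6 v1, v7, v8, by simp⟩
  · rw [← cj_Ns, mem_cj, inv_eq_of_mul_eq_one_right so2]
    refine nV ?_
    have k : ∀ {x y : Om}, g 5 * g 17 * g 5 * x = y * g 5 * g 17 * g 5 →
        y ∈ sub g [[1], [6], [7], [8]] →
        g 5 * g 17 * g 5 * x * (g 5 * g 17 * g 5)⁻¹ ∈ sub g [[1], [6], [7], [8]] := fun {x y} e h => by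
      rwa [e, show y * g 5 * g 17 * g 5 * (g 5 * g 17 * g 5)⁻¹ = y by group]
    simp only [List.forall_mem_cons, wv_cons, wv_nil, one_mul]
    exact ⟨k e5 (mul_mem v6 v1), k e6 v1, k e7 v7, k e8 v8, by simp⟩
  · rw [e1, e9, mul_inv_cancel_right, mul_inv_cancel_right, inv_eq_of_mul_eq_one_right so2]
    simp only [mul_assoc]

end Cfsg.Lib.SJ2.M
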