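import Cfsg.Agent.SJ2.Defs

/-!
# Standard subgroups of type `J₂`: first consequences
-/

set_option autoImplicit false

namespace Cfsg.Lib.SJ2

open Subgroup Cfsg.Lib.Gold Cfsg.Lib.Trans Cfsg.Lib.StdSz Cfsg.Lib.StdW
open Cfsg.Lib.StdM (Cl)
open Cfsg.Lib.StdX (OF VG Tr3 Db Fm Mu Rl inj conj_of comm_of exists_sec)
open scoped commutatorElement

variable {G Ω : Type*} [Group G] [Group Ω] {Γ Γ0 T : Subgroup Ω} {z y : Ω} {n : ℕ}

namespace Bas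

variable (b : Bas Γ Γ0 T z y n)
include b

theorem two_le [Finite Ω] {Q : Subgroup Ω} (hQ : Q ≤ Γ) (h2 : IsPGroup 2 Q) :
    Nat.card Q ≤ 2 ^ (n + 1) := by
  have h1 := b.syl (Γ0 ⊓ Q) inf_le_left (h2.to_le inf_le_right)
  have h3 : Γ0.relIndex Q ≤ 2 := by
    by_cases h : Q ≤ Γ0
    · rw [relIndex_eq_one.2 h]; norm_num
    · obtain ⟨a, ha, h0⟩ := SetLike.not_le_iff_exists.1 h
      refine (relIndex_eq_two_iff.2 ⟨a, ha, fun x hx => ?_⟩).le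
      by_cases hx0 : x ∈ Γ0
      · exact Or.inr ⟨hx0, fun e => h0 ((mul_mem_cancel_left hx0).1 e)⟩
      · exact Or.inl ⟨b.idx x (hQ hx) a (hQ ha) hx0 h0, hx0⟩
  have h4 := relIndex_mul_relIndex ⊥ (Γ0 ⊓ Q) Q bot_le inf_le_right
  rw [relIndex_bot_left, relIndex_bot_left, inf_relIndex_right] at h4
  rw [← h4, pow_succ]
  exact Nat.mul_le_mul h1 h3

theorem conj_mem {g x : Ω} (hg : g ∈ Γ) (hx : x ∈ Γ0) : g * x * g⁻¹ ∈ Γ0 := by
  by_cases h : g ∈ Γ0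
  · exact mul_mem (mul_mem h hx) (inv_mem h)
  · exact b.idx _ (mul_mem hg (b.le hx)) _ (inv_mem hg) (fun e => h ((mul_mem_cancel_right hx).1 e))
      fun e => h (inv_mem_iff.1 e)

theorem le_Ns : Γ ≤ Ns Γ0 := fun g hg => mem_normalizer_iff.2 fun x =>
  ⟨b.conj_mem hg, fun h => by simpa [mul_assoc] using b.conj_mem (inv_mem hg) h⟩

theorem cmm_mem {x y : Ω} (hx : x ∈ Γ) (hy : y ∈ Γ) : ⁅x, y⁆ ∈ Γ0 := by
  rw [commutatorElement_def]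
  by_cases h1 : y ∈ Γ0
  · exact Γ0.mul_mem (b.conj_mem hx h1) (Γ0.inv_mem h1)
  by_cases h2 : x ∈ Γ0
  · have := Γ0.mul_mem h2 (b.conj_mem hy (Γ0.inv_mem h2))
    simpa only [mul_assoc] using this
  · have := Γ0.mul_mem (b.idx x hx y hy h2 h1)
      (b.idx _ (Γ.inv_mem hx) _ (Γ.inv_mem hy) (by simpa using h2) (by simpa using h1))
    simpa only [mul_assoc] using this

theorem twoT : IsPGroup 2 T := IsPGroup.of_card b.cardT

theorem z0 : z ∈ Γ0 := b.T0 b.zT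

theorem y0 : y ∈ Γ0 := b.T0 b.yT

theorem T_le : T ≤ Γ0 ⊓ C1 z :=
  le_inf b.T0 fun x hx => StdSz.mem_C1.2 (StdSz.mem_Cs.1 b.zc x hx).symm

theorem mem_zp {g : Ω} (h : g ∈ zpowers z) : g = 1 ∨ g = z := by
  obtain ⟨i, rfl⟩ := h
  have h2 : z ^ (2 : ℤ) = 1 := by rw [zpow_two, b.z2]
  rcases Int.even_or_odd' i with ⟨j, rfl | rfl⟩
  · exact Or.inl (by simp only [zpow_mul, h2, one_zpow])
  · exact Or.inr (by simp only [zpow_add, zpow_mul, h2, one_zpow, one_mul, zpow_one])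

theorem cen {g : Ω} (hg : g ∈ Γ) (h : g ∈ Cs Γ0) : g = 1 := by
  refine (b.mem_zp (b.centT ⟨hg, StdJ4.Cs_anti b.T0 h⟩)).resolve_right fun e => ?_
  subst e
  have := b.simple
  have h1 : center Γ0 = ⊤ := (IsSimpleGroup.eq_bot_or_eq_top_of_normal _ inferInstance).resolve_left
    fun e => b.z1 (congrArg Subtype.val (mem_bot.1 (e.le (show (⟨g, b.z0⟩ : Γ0) ∈ center Γ0 from
      mem_center_iff.2 fun y => Subtype.ext (h y y.2)))))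
  have h2 : ⁅T, T⁆ ≤ ⊥ := commutator_le.2 fun x hx y hy => mem_bot.2 (commutatorElement_eq_one_iff_mul_comm.2
    (congrArg Subtype.val (mem_center_iff.1 (h1.ge (mem_top (⟨y, b.T0 hy⟩ : Γ0))) ⟨x, b.T0 hx⟩)))
  exact b.z1 (mem_bot.1 (h2 b.zder))

theorem cent_cent {a g : Ω} (ha : Cl Γ0 z a) (hg : g ∈ Γ) (h : g ∈ Cs (Γ0 ⊓ C1 a)) :
    g = 1 ∨ g = a := by
  obtain ⟨c, hc, rfl⟩ := ha
  have h3 : c⁻¹ * g * c ∈ Γ ⊓ Cs T := mem_inf.2 ⟨mul_mem (mul_mem (inv_mem (b.le hc)) hg) (b.le hc),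
    StdSz.mem_Cs.2 fun x hx => by
      have := StdSz.mem_Cs.1 h (c * x * c⁻¹) (mem_inf.2 ⟨mul_mem (mul_mem hc (b.T0 hx)) (inv_mem hc),
        StdSz.mem_C1.2 ((StdSz.mem_Cs.1 b.zc x hx).symm.map (MulAut.conj c))⟩)
      simpa [mul_assoc] using this.map (MulAut.conj c⁻¹)⟩
  refine (b.mem_zp (b.centT h3)).imp (fun e => ?_) fun e => ?_
  · calc g = c * (c⁻¹ * g * c) * c⁻¹ := by group
      _ = 1 := by rw [e]; group
  · rw [← e]; group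

theorem sylT [Finite Ω] : IsSylowIn 2 T Γ0 := by
  have : Fact (Nat.Prime 2) := ⟨Nat.prime_two⟩
  obtain ⟨R, hR⟩ := exists_isSylowIn (p := 2) Γ0
  exact hR.of_card_ge b.twoT b.T0 ((b.syl R hR.le hR.isPGroup).trans b.cardT.ge)

/-- a 2-subgroup of full order is conjugate to `T` -/
theorem cj_T [Finite Ω] {Q : Subgroup Ω} (hQ : Q ≤ Γ0) (hc : Nat.card Q = 2 ^ n) :
    ∃ c ∈ Γ0, cj c T = Q := by
  have : Fact (Nat.Prime 2) := ⟨Nat.prime_two⟩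
  obtain ⟨c, hc0, e⟩ := b.sylT.exists_cj_le (IsPGroup.of_card hc) hQ
  refine ⟨c⁻¹, inv_mem hc0, ?_⟩
  rw [← Subgroup.eq_of_le_of_card_ge e (by rw [card_cj, hc, b.cardT]), cj_inv_cj]

/-- a nontrivial element centralising a Sylow subgroup is conjugate to `z` -/
theorem cl_of_big [Finite Ω] {Q : Subgroup Ω} (hQ : Q ≤ Γ0) (hc : Nat.card Q = 2 ^ n) {a : Ω}
    (ha : a ∈ Γ) (h1 : a ≠ 1) (h : a ∈ Cs Q) : Cl Γ0 z a := by
  obtain ⟨c, hc0, rfl⟩ := b.cj_T hQ hc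
  rw [← StdJ4.cj_Cs, mem_cj] at h
  rcases b.mem_zp (b.centT (mem_inf.2 ⟨mul_mem (mul_mem (inv_mem (b.le hc0)) ha) (b.le hc0), h⟩)) with e | e
  · exact absurd (by simpa [mul_assoc] using congrArg (fun x => c * x * c⁻¹) e) h1
  · exact ⟨c, hc0, by rw [← e]; group⟩

/-- the class of `z` is invariant under `Γ` -/
theorem cl_conj [Finite Ω] {a g : Ω} (ha : Cl Γ0 z a) (hg : g ∈ Γ) : Cl Γ0 z (g * a * g⁻¹) := by
  obtain ⟨c, hc, rfl⟩ := ha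
  have h1 := mul_mem hg (b.le hc)
  rw [show g * (c * z * c⁻¹) * g⁻¹ = g * c * z * (g * c)⁻¹ by group]
  refine b.cl_of_big (Q := cj (g * c) T) (cj_le_iff.2 fun x hx => b.conj_mem h1 (b.T0 hx))
    ((card_cj _ _).trans b.cardT) (mul_mem (mul_mem h1 (b.le b.z0)) (inv_mem h1))
    (fun e => b.z1 (conj_eq_one_iff.1 e)) ?_
  rw [← StdJ4.cj_Cs]; exact conj_mem_cj.2 b.zc

theorem commR {a c : Ω} (ha : a ∈ T ⊓ C1 y) (hc : c ∈ T ⊓ C1 y) : Commute a c := by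
  have h1 := b.sqR _ (mul_mem ha hc)
  have h2 := eq_inv_of_mul_eq_one_left h1
  rw [mul_inv_rev, inv_eq_of_mul_eq_one_right (b.sqR a ha), inv_eq_of_mul_eq_one_right (b.sqR c hc)] at h2
  exact h2

theorem zR : z ∈ T ⊓ C1 y := ⟨b.zT, StdSz.mem_C1.2 (StdSz.mem_Cs.1 b.zc y b.yT)⟩

theorem exists_16 {a : Ω} (ha : a ∈ Γ0) (h2 : a * a = 1) :
    ∃ Q ≤ Γ0 ⊓ C1 a, (∀ x ∈ Q, x * x = 1) ∧ Nat.card Q = 16 := by
  have key : ∀ c ∈ Γ0, ∀ u ∈ T ⊓ C1 y, ∃ Q ≤ Γ0 ⊓ C1 (c * u * c⁻¹), (∀ x ∈ Q, x * x = 1) ∧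
      Nat.card Q = 16 := fun c hc u hu =>
    ⟨cj c (T ⊓ C1 y), le_inf (cj_le_of_mem_of_le hc (inf_le_left.trans b.T0))
      (cj_le_iff.2 fun x hx => StdSz.mem_C1.2 ((b.commR hx hu).map (MulAut.conj c))),
      by
        rintro _ ⟨x, hx, rfl⟩
        change c * x * c⁻¹ * (c * x * c⁻¹) = 1
        rw [conj_mul, b.sqR x hx]; group,
      (card_cj c _).trans b.cardR⟩
  rcases b.cls a ha h2 with rfl | ⟨c, hc, rfl⟩ | ⟨c, hc, rfl⟩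
  · simpa using key 1 (one_mem _) 1 (one_mem _)
  · exact key c hc z b.zR
  · exact key c hc y ⟨b.yT, StdSz.mem_C1.2 (Commute.refl y)⟩

omit b in
theorem comm_of_sq {E : Subgroup Ω} (h2 : ∀ a ∈ E, a * a = 1) {a c : Ω} (ha : a ∈ E) (hc : c ∈ E) :
    Commute a c := by
  have h1 := eq_inv_of_mul_eq_one_left (h2 _ (mul_mem ha hc))
  rw [mul_inv_rev, inv_eq_of_mul_eq_one_right (h2 a ha), inv_eq_of_mul_eq_one_right (h2 c hc)] at h1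
  exact h1

omit b in
theorem two_of_sq {E : Subgroup Ω} (h2 : ∀ a ∈ E, a * a = 1) : IsPGroup 2 E := fun x =>
  ⟨1, Subtype.ext (by simpa [pow_two] using h2 x x.2)⟩

/-- elementary subgroups of `Γ0` -/
theorem elem [Finite Ω] {E : Subgroup Ω} (hE : E ≤ Γ0) (h2 : ∀ a ∈ E, a * a = 1) :
    Nat.card E ≤ 4 ∨ ∃ c ∈ Γ0, cj c E ≤ T ⊓ C1 y := by
  have : Fact (Nat.Prime 2) := ⟨Nat.prime_two⟩
  by_cases hy : ∃ a ∈ E, Cl Γ0 y a
  · obtain ⟨_, ha, c, hc, rfl⟩ := hy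
    obtain ⟨R, hR⟩ := exists_isSylowIn (p := 2) (Γ0 ⊓ C1 y)
    have sR := hR.of_card_ge (b.twoT.to_le inf_le_left) (inf_le_inf_right _ b.T0)
      ((b.sylR R hR.le hR.isPGroup).trans b.cardR.ge)
    obtain ⟨d, hd, e⟩ := sR.exists_cj_le (isPGroup_cj (two_of_sq h2) c⁻¹)
      (le_inf (cj_le_of_mem_of_le (inv_mem hc) hE) (cj_le_iff.2 fun x hx => StdSz.mem_C1.2 (by
        simpa [mul_assoc] using commute_conj (comm_of_sq h2 hx ha) c⁻¹)))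
    rw [cj_cj] at e
    exact Or.inr ⟨_, mul_mem hd.1 (inv_mem hc), e⟩
  refine Or.inl ?_
  have hz : ∀ a ∈ E, a ≠ 1 → Cl Γ0 z a := fun a ha a1 =>
    ((b.cls a (hE ha) (h2 a ha)).resolve_left a1).resolve_right fun e => hy ⟨a, ha, e⟩
  have fin : ∀ a c : Ω, (E : Set Ω) ⊆ {1, a, c, a * c} → Nat.card E ≤ 4 := fun a c h =>
    (Set.ncard_le_ncard h).trans ((Set.ncard_insert_le _ _).trans (Nat.succ_le_succ
      ((Set.ncard_insert_le _ _).trans (Nat.succ_le_succ ((Set.ncard_insert_le _ _).trans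
        (by rw [Set.ncard_singleton]))))))
  by_cases h1 : ∀ a ∈ E, a = 1
  · exact fin 1 1 fun a ha => Or.inl (h1 a ha)
  push Not at h1
  obtain ⟨_, ha, a1⟩ := h1
  obtain ⟨g, hg, rfl⟩ := hz _ ha a1
  by_cases h3 : ∀ c ∈ E, c = 1 ∨ c = g * z * g⁻¹
  · exact fin (g * z * g⁻¹) 1 fun c hc => (h3 c hc).imp_right Or.inl
  push Not at h3
  obtain ⟨c, hc, c1, ca⟩ := h3
  refine fin (g * z * g⁻¹) c fun d hd => or_iff_not_imp_left.2 fun d1 => ?_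
  have k : ∀ x ∈ E, x ≠ 1 → Cl Γ0 z (g⁻¹ * x * g⁻¹⁻¹) ∧ Commute z (g⁻¹ * x * g⁻¹⁻¹) := fun x hx x1 =>
    ⟨(hz x hx x1).conj (inv_mem hg), by
      simpa [mul_assoc] using commute_conj (comm_of_sq h2 ha hx) g⁻¹⟩
  rcases b.cl3 _ _ (k c hc c1).1 (k d hd d1).1 (k c hc c1).2 (k d hd d1).2
    (commute_conj (comm_of_sq h2 hc hd) g⁻¹) (fun e => ca (by rw [← e]; group)) with e | e | e
  · exact Or.inl (by rw [← e]; group)
  · exact Or.inr (Or.inl (mul_left_cancel (mul_right_cancel e)))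
  · refine Or.inr (Or.inr ?_)
    change d = _
    calc d = g * (g⁻¹ * d * g⁻¹⁻¹) * g⁻¹ := by group
      _ = _ := by rw [e]; group

theorem ea0 [Finite Ω] {E : Subgroup Ω} (hE : E ≤ Γ0) (h2 : ∀ a ∈ E, a * a = 1) : Nat.card E ≤ 16 := by
  rcases b.elem hE h2 with e | ⟨c, -, e⟩
  · omega
  · exact (card_cj c E).ge.trans ((Subgroup.card_le_of_le e).trans b.cardR.le)

variable {A : Subgroup G} {ρ : G → Ω} (h : Mdl Γ Γ0 A ρ)
include h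

theorem le_of_normal {J : Subgroup G} (hJ : A ≤ Ns J) {a : G} (ha : a ∈ A)
    (haJ : a ∈ J) (h1 : ρ a ≠ 1) : A ≤ J := by
  have := b.simple
  have hn : ((h.img (A ⊓ J)).subgroupOf Γ0).Normal := ⟨fun x hx g => by
    obtain ⟨y, hy, -, e⟩ := h.mem_img.1 hx
    obtain ⟨c, hc, e'⟩ := h.surj g g.2
    refine h.mem_img.2 ⟨c * y * c⁻¹, mem_inf.2 ⟨mul_mem (mul_mem hc hy.1) (inv_mem hc),
      mem_normalizer_conj (hJ hc) hy.2⟩, le_normalizer (mul_mem (mul_mem hc hy.1) (inv_mem hc)), ?_⟩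
    rw [h.conj (le_normalizer hc) (le_normalizer hy.1), e, e']; rfl⟩
  rcases IsSimpleGroup.eq_bot_or_eq_top_of_normal _ hn with e | e
  · exact absurd (congrArg Subtype.val (mem_bot.1 (e.le (show (⟨ρ a, h.mem a ha⟩ : Γ0) ∈ _ from
      h.mem_img.2 ⟨a, ⟨ha, haJ⟩, le_normalizer ha, rfl⟩)))) h1
  · refine h.le_of_surj fun γ hγ => ?_
    obtain ⟨y, hy, -, e⟩ := h.mem_img.1 (subgroupOf_eq_top.1 e hγ)
    exact ⟨y, hy.1, hy.2, e⟩

theorem gen_inv [Finite G] {S : Subgroup G} (hS : ∀ a ∈ A, a * a = 1 → a ∈ S) : A ≤ S := by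
  obtain ⟨a, ha, h2, e⟩ := h.lift_inv b.z0 b.z2
  have h1 : A ≤ closure {x | x ∈ A ∧ x * x = 1} := by
    refine b.le_of_normal h (fun g hg => ?_) ha (subset_closure ⟨ha, h2⟩) (e ▸ b.z1)
    refine mem_normalizer_of_cj_le ?_
    rw [cj_closure]
    refine closure_mono ?_
    rintro _ ⟨x, ⟨hx, hx2⟩, rfl⟩
    refine ⟨A.mul_mem (A.mul_mem hg hx) (A.inv_mem hg), ?_⟩
    calc g * x * g⁻¹ * (g * x * g⁻¹) = g * (x * x) * g⁻¹ := by group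
      _ = 1 := by rw [hx2]; group
  exact h1.trans ((closure_le _).2 fun x hx => hS x hx.1 hx.2)

omit b in
/-- involutions of `A` with conjugate images are conjugate -/
theorem cl_lift [Finite G] {a a' : G} (ha : a ∈ A) (ha' : a' ∈ A) (h2 : a * a = 1)
    (h2' : a' * a' = 1) (e : Cl Γ0 (ρ a) (ρ a')) : Cl A a a' := by
  obtain ⟨c, hc, e⟩ := e
  obtain ⟨g, hg, rfl⟩ := h.surj c hc
  exact ⟨g, hg, h.conj_eq (le_normalizer hg) ha ha' (k := 1) (l := 1) (by rw [pow_one, pow_two, h2])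
    (by rw [pow_one, pow_two, h2']) e⟩

end Bas

theorem Out.of_all {σ x : Ω} (o : Out Γ Γ0 σ) (hx : x ∈ Γ) (h0 : x ∉ Γ0)
    (h2 : x * x = 1) : OF Γ0 4 x :=
  o.of.conj (o.ocl x hx h0 h2)

/-- elementary subgroups centralising an outer involution -/
theorem Out.ea' (b : Bas Γ Γ0 T z y n) {σ x : Ω} (o : Out Γ Γ0 σ) (hx : x ∈ Γ) (h0 : x ∉ Γ0)
    (h2 : x * x = 1) {E : Subgroup Ω} (hE : E ≤ Γ ⊓ C1 x) (e2 : ∀ a ∈ E, a * a = 1) :
    Nat.card E ≤ 8 := by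
  obtain ⟨c, hc, rfl⟩ := o.ocl x hx h0 h2
  rw [← card_cj c⁻¹ E]
  refine o.ea _ (le_inf (cj_le_of_mem_of_le (inv_mem (b.le hc)) (hE.trans inf_le_left))
    (cj_le_iff.2 fun a ha => StdSz.mem_C1.2 ?_)) ?_
  · simpa [mul_assoc] using commute_conj (StdSz.mem_C1.1 (hE ha).2) c⁻¹
  · rintro _ ⟨a, ha, rfl⟩
    change c⁻¹ * a * c⁻¹⁻¹ * (c⁻¹ * a * c⁻¹⁻¹) = 1
    rw [conj_mul, e2 a ha]; group

theorem Out.o5' {σ x f : Ω} (o : Out Γ Γ0 σ) (hx : x ∈ Γ) (h0 : x ∉ Γ0)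
    (h2 : x * x = 1) (hf : f ∈ Γ0) (c : Commute f x) (f5 : f ^ 5 = 1) : f = 1 := by
  obtain ⟨d, hd, rfl⟩ := o.ocl x hx h0 h2
  have := o.o5 (d⁻¹ * f * d⁻¹⁻¹) ⟨Γ0.mul_mem (Γ0.mul_mem (Γ0.inv_mem hd) hf) (Γ0.inv_mem (Γ0.inv_mem hd)),
    StdSz.mem_C1.2 (by simpa [mul_assoc] using commute_conj c d⁻¹)⟩ (by rw [conj_pow, f5]; group)
  exact conj_eq_one_iff.1 this

/-- elementary subgroups of `Γ` -/
theorem Out.elem [Finite Ω] (b : Bas Γ Γ0 T z y n) {σ : Ω} (o : Out Γ Γ0 σ) {E : Subgroup Ω} (hE : E ≤ Γ)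
    (e2 : ∀ a ∈ E, a * a = 1) :
    Nat.card E ≤ 16 ∧ (Nat.card E = 16 → ∃ c ∈ Γ0, cj c E = T ⊓ C1 y) := by
  by_cases h : E ≤ Γ0
  · refine ⟨b.ea0 h e2, fun e => ?_⟩
    rcases b.elem h e2 with e' | ⟨c, hc, e'⟩
    · omega
    · exact ⟨c, hc, Subgroup.eq_of_le_of_card_ge e' (by rw [card_cj, e, b.cardR])⟩
  · obtain ⟨x, hx, h0⟩ := SetLike.not_le_iff_exists.1 h
    have := o.ea' b (hE hx) h0 (e2 x hx) (le_inf hE fun a ha =>
      StdSz.mem_C1.2 (Bas.comm_of_sq e2 ha hx)) e2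
    exact ⟨by omega, fun e => by omega⟩

theorem exists_mdl [Finite G] (b : Bas Γ Γ0 T z y n) {B : Subgroup G} (φ : B →* Ω) (hr : φ.range = Γ0)
    (hp : B ≤ ⁅B, B⁆) (hk : φ.ker ≤ center B) (ho : Odd (Nat.card φ.ker)) :
    ∃ ρ : G → Ω, Mdl Γ Γ0 B ρ ∧ ∀ x : B, ρ x = φ x := by
  classical
  have hm : ∀ x : B, φ x ∈ Γ0 := fun x => hr.le ⟨x, rfl⟩
  have hz : ∀ x : B, φ x = 1 ↔ (x : G) ∈ Cs B := fun x => ⟨fun e => StdSz.mem_Cs.2 fun y hy =>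
    (congrArg Subtype.val (mem_center_iff.1 (hk e) ⟨y, hy⟩)).symm, fun e => b.cen (b.le (hm x))
      (StdSz.mem_Cs.2 fun γ hγ => by
        obtain ⟨y, rfl⟩ := hr.ge hγ
        exact (show Commute x y from Subtype.ext (StdSz.mem_Cs.1 e y y.2)).map φ)⟩
  have hs : Function.Surjective (φ.codRestrict Γ0 hm) := fun γ =>
    let ⟨x, e⟩ := hr.ge γ.2; ⟨x, Subtype.ext e⟩
  have ex : ∀ n : Ns B, ∃ g ∈ Γ, ∀ x : B, φ (B.normalizerMonoidHom n x) = g * φ x * g⁻¹ := fun n => by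
    have hk' : ∀ n : Ns B, (φ.codRestrict Γ0 hm).ker ≤ ((φ.codRestrict Γ0 hm).comp
        (B.normalizerMonoidHom n).toMonoidHom).ker := fun n x hx => Subtype.ext ((hz _).2
      (mem_normalizer_conj (normalizer_le_normalizer_centralizer B n.2) ((hz x).1 (congrArg Subtype.val hx))))
    let f := fun n => (φ.codRestrict Γ0 hm).liftOfSurjective hs ⟨_, hk' n⟩
    have hf : ∀ n x, f n (φ.codRestrict Γ0 hm x) = φ.codRestrict Γ0 hm (B.normalizerMonoidHom n x) :=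
      fun n x => MonoidHom.liftOfRightInverse_comp_apply _ _ _ _ x
    have hi : ∀ n y, f n⁻¹ (f n y) = y := fun n y => by
      obtain ⟨x, rfl⟩ := hs y
      rw [hf, hf, ← MulAut.mul_apply, ← map_mul, inv_mul_cancel, map_one, MulAut.one_apply]
    obtain ⟨g, hg, e⟩ := b.aut ⟨⟨f n, f n⁻¹, hi n, fun y => by simpa using hi n⁻¹ y⟩, (f n).map_mul⟩
    exact ⟨g, hg, fun x => (congrArg Subtype.val (hf n x)).symm.trans (e _)⟩
  choose r r1 r2 using ex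
  have un : ∀ (n : Ns B) (g : Ω), g ∈ Γ → (∀ x : B, φ (B.normalizerMonoidHom n x) = g * φ x * g⁻¹) →
      r n = g := fun n g hg e => (inv_mul_eq_one.1 (b.cen (mul_mem (inv_mem hg) (r1 n))
    (StdSz.mem_Cs.2 fun γ hγ => by
      obtain ⟨y, rfl⟩ := hr.ge hγ
      refine commute_of_conj_eq ?_
      calc _ = g⁻¹ * (r n * φ y * (r n)⁻¹) * g := by group
        _ = _ := by rw [← r2, e]; group))).symm
  have rb : ∀ x : B, r ⟨x, le_normalizer x.2⟩ = φ x := fun x => un _ _ (b.le (hm x)) fun y => by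
    rw [← map_inv, ← map_mul, ← map_mul]; rfl
  refine ⟨fun x => if hx : x ∈ Ns B then r ⟨x, hx⟩ else 1, ⟨fun x hx y hy => ?_, fun x hx => ?_,
    fun x hx => ?_, fun a ha => ?_, fun γ hγ => ?_, hp, ?_⟩,
    fun x => (dif_pos (le_normalizer x.2)).trans (rb x)⟩
  · rw [dif_pos hx, dif_pos hy, dif_pos (mul_mem hx hy)]
    refine un _ _ (mul_mem (r1 _) (r1 _)) fun a => ?_
    rw [show (⟨x * y, mul_mem hx hy⟩ : Ns B) = ⟨x, hx⟩ * ⟨y, hy⟩ from rfl, map_mul, MulAut.mul_apply, r2, r2]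
    group
  · rw [dif_pos hx]
    refine ⟨fun e => ?_, fun e => un _ _ (one_mem _) fun a => ?_⟩
    · have h1 : ∀ a ∈ B, a⁻¹ * (x * a * x⁻¹) ∈ Cs B := fun a ha => by
        refine (hz ((⟨a, ha⟩ : B)⁻¹ * B.normalizerMonoidHom ⟨x, hx⟩ ⟨a, ha⟩)).1 ?_
        rw [map_mul, r2, e, map_inv]; group
      refine le_centralizer_iff.1 ((hp.trans (commutator_le.2 fun a ha a' ha' => StdSz.mem_Cs.2 ?_)) :
        B ≤ Cs (zpowers x)) (mem_zpowers x)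
      rintro _ ⟨i, rfl⟩
      refine (commute_of_conj_eq ?_).symm.zpow_right i
      have c := StdSz.mem_Cs.1 (h1 a ha)
      have c' := StdSz.mem_Cs.1 (h1 a' ha')
      have e1 := mem_normalizer_conj hx ha'
      calc _ = a * (a⁻¹ * (x * a * x⁻¹) * (x * a' * x⁻¹)) * (x * a * x⁻¹)⁻¹ * (x * a' * x⁻¹)⁻¹ := by
            rw [commutatorElement_def]; group
        _ = a * a' * (a'⁻¹ * (x * a' * x⁻¹) * a⁻¹) * (x * a' * x⁻¹)⁻¹ := by rw [(c _ e1).eq]; group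
        _ = _ := by rw [(c' _ (inv_mem ha)).eq, commutatorElement_def]; group
    · rw [one_mul, inv_one, mul_one]
      exact congrArg φ (Subtype.ext (by
        change x * a * x⁻¹ = a
        rw [(StdSz.mem_Cs.1 e a a.2).eq, mul_inv_cancel_right]))
  · rw [dif_pos hx]; exact r1 _
  · rw [dif_pos (le_normalizer ha)]; exact (rb ⟨a, ha⟩).symm ▸ hm _
  · obtain ⟨x, rfl⟩ := hr.ge hγ
    exact ⟨x, x.2, by rw [dif_pos (le_normalizer x.2)]; exact rb x⟩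
  · rwa [← Nat.card_congr (subgroupOfEquivOfLe inf_le_left).toEquiv,
      show (B ⊓ Cs B).subgroupOf B = φ.ker from Subgroup.ext fun x =>
        ⟨fun e => (hz x).2 e.2, fun e => ⟨x.2, (hz x).1 e⟩⟩]

theorem exists_fm {A : Subgroup G} {ρ : G → Ω} {t : G} (b : Bas Γ Γ0 T z y n) (h : Mdl Γ Γ0 A ρ) (hZ : A ⊓ Cs A = ⊥) (s : St A ⊥ t) {ζ u : G}
    (hζ : ζ ∈ A) (e : ρ ζ = z) (h1 : u * u = 1) (h2 : u * t * u = t * ζ) (h3 : u ∈ Cs (A ⊓ C1 ζ)) :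
    ∃ ι v, Fm Γ Γ0 z A ρ t ι v := by
  classical
  obtain ⟨σ, k1, -⟩ := exists_sec h hZ
  let ι : Ω → G := fun γ => if c : γ ∈ Γ0 then σ ⟨γ, c⟩ else 1
  have i1 : ∀ {γ}, γ ∈ Γ0 → ι γ ∈ A := fun c => by simp only [ι, dif_pos c]; exact (k1 _).1
  have i2 : ∀ {γ}, γ ∈ Γ0 → ρ (ι γ) = γ := fun c => by simp only [ι, dif_pos c]; exact (k1 _).2
  have i3 : ∀ {g k}, g ∈ Γ0 → k ∈ Γ0 → ι (g * k) = ι g * ι k := fun hg hk =>
    inj h hZ (i1 (mul_mem hg hk)) (mul_mem (i1 hg) (i1 hk)) (by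
      rw [h.mul _ (le_normalizer (i1 hg)) _ (le_normalizer (i1 hk)), i2 hg, i2 hk, i2 (mul_mem hg hk)])
  have i4 : ∀ {x}, x ∈ A → Commute (ρ x) z → Commute u x := fun hx c =>
    StdSz.mem_Cs.1 h3 _ ⟨hx, StdSz.mem_C1.2 (comm_of h hZ (le_normalizer hx) hζ (e ▸ c))⟩
  have ind : ∀ g ∈ Γ0, ∀ k ∈ Γ0, g * z * g⁻¹ = k * z * k⁻¹ → ι g * u * (ι g)⁻¹ = ι k * u * (ι k)⁻¹ :=
    fun g hg k hk c => by
      have := (i4 (mul_mem (inv_mem (i1 hk)) (i1 hg)) (by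
        rw [h.mul _ (le_normalizer (inv_mem (i1 hk))) _ (le_normalizer (i1 hg)),
          h.inv (le_normalizer (i1 hk)), i2 hg, i2 hk]
        show _ * _ = _ * _
        calc k⁻¹ * g * z = k⁻¹ * (g * z * g⁻¹) * g := by group
          _ = _ := by rw [c]; group)).eq
      calc ι g * u * (ι g)⁻¹ = ι k * ((ι k)⁻¹ * ι g * u) * (ι g)⁻¹ := by group
        _ = _ := by rw [← this]; group
  obtain ⟨w, hw⟩ : ∃ w : Ω → G, ∀ g ∈ Γ0, w (g * z * g⁻¹) = ι g * u * (ι g)⁻¹ := by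
    refine ⟨fun a => if c : ∃ g ∈ Γ0, g * z * g⁻¹ = a then ι c.choose * u * (ι c.choose)⁻¹ else 1,
      fun g hg => ?_⟩
    have c : ∃ k ∈ Γ0, k * z * k⁻¹ = g * z * g⁻¹ := ⟨g, hg, rfl⟩
    exact (dif_pos c).trans (ind _ c.choose_spec.1 _ hg c.choose_spec.2)
  refine ⟨ι, w, h, hZ, s, b.z0, b.z2, b.z1, i1, i2, ?_, ?_, ?_, ?_⟩
  · rintro _ ⟨g, hg, rfl⟩
    rw [hw g hg, conj_mul, h1]; simp
  · rintro _ ⟨g, hg, rfl⟩
    have c' : ι g * t * (ι g)⁻¹ = t := conj_eq_of_commute (StdSz.mem_Cs.1 s.tA _ (i1 hg)).symm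
    rw [hw g hg, ← conj_of h hZ (le_normalizer (i1 hg)) hζ
      (i1 (mul_mem (mul_mem hg b.z0) (inv_mem hg))) (by
        rw [i2 hg, e, i2 (mul_mem (mul_mem hg b.z0) (inv_mem hg))])]
    calc _ = ι g * u * (ι g)⁻¹ * (ι g * t * (ι g)⁻¹) * (ι g * u * (ι g)⁻¹) := by rw [c']
      _ = ι g * (u * t * u) * (ι g)⁻¹ := by group
      _ = _ := by rw [h2, ← conj_mul, c']
  · rintro _ x ⟨g, hg, rfl⟩ hx c
    have := commute_conj (i4 (mul_mem (mul_mem (inv_mem (i1 hg)) (i1 hx)) (i1 hg)) (by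
      rw [h.mul _ (le_normalizer (mul_mem (inv_mem (i1 hg)) (i1 hx))) _ (le_normalizer (i1 hg)),
        h.mul _ (le_normalizer (inv_mem (i1 hg))) _ (le_normalizer (i1 hx)),
        h.inv (le_normalizer (i1 hg)), i2 hg, i2 hx]
      simpa [mul_assoc] using commute_conj c g⁻¹)) (ι g)
    rw [hw g hg]
    simpa [mul_assoc] using this
  · rintro _ k ⟨g, hg, rfl⟩ hk
    rw [show k * (g * z * g⁻¹) * k⁻¹ = k * g * z * (k * g)⁻¹ by group, hw _ (mul_mem hk hg), hw g hg,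
      i3 hk hg]
    group

end Cfsg.Lib.SJ2
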