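import Cfsg.Agent.SJ2.Sw2
import Cfsg.Agent.SJ2.V3
import Cfsg.Agent.StdX.Cal4

/-!
# Standard subgroups of type `J₂`: the two alternatives
-/

set_option autoImplicit false

namespace Cfsg.Lib.SJ2

open Subgroup Cfsg.Lib.Gold Cfsg.Lib.Trans Cfsg.Lib.StdSz Cfsg.Lib.StdW
open Cfsg.Lib.StdM (Cl)
open Cfsg.Lib.StdX (OF VG Tr3 Db Fm Mu Rl inj conj_of comm_of exists_sec)
open scoped commutatorElement

variable {G Ω : Type*} [Group G] [Group Ω] [Finite G] [Finite Ω] {Γ Γ0 T V : Subgroup Ω}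
  {z q y γ m k a₁ a₂ s w : Ω} {n : ℕ} {A : Subgroup G} {ρ : G → Ω} {t : G} {ι v : Ω → G}

namespace Core

omit [Finite G] [Finite Ω] in
theorem dbl (F : Fm Γ Γ0 z A ρ t ι v) (o : Jo Γ Γ0 z q a₁ a₂ s w) (rl : Rl Γ0 z t v a₁ a₂) :
    ∃ B, Sw B t ∧ (∀ x ∈ B, dg t x ∈ A) ∧ ∀ a ∈ A, ∃ x ∈ B, dg t x = a := by
  obtain ⟨I, gen, rel⟩ := o.clq
  have r : ∀ i ∈ I, ∀ j ∈ I, Rl Γ0 z t v i j := fun i hi j hj => by
    obtain ⟨h, k⟩ := rel i hi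
    rcases k j hj with rfl | ⟨g, hg, rfl, rfl⟩
    · exact ⟨h, h, by rw [F.tvt h]; exact (F.va h).mul_right (Commute.refl _)⟩
    refine ⟨rl.l.conj hg, rl.r.conj hg, ?_⟩
    rw [F.eqv rl.l hg, F.eqv rl.r hg,
      show t * (ι g * v a₂ * (ι g)⁻¹) * t⁻¹ = t * ι g * v a₂ * (t * ι g)⁻¹ by group, (F.tι hg).eq,
      show ι g * t * v a₂ * (ι g * t)⁻¹ = ι g * (t * v a₂ * t⁻¹) * (ι g)⁻¹ by group]
    exact commute_conj rl.e _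
  have w : Sw (closure (v '' I)) t := ⟨F.s.tt, (closure_le _).2 (by
    rintro _ ⟨i, hi, rfl⟩
    refine StdSz.mem_Cs.2 fun x hx =>
      (StdSz.mem_C1.1 (cj_le_iff_le_cj_inv.2 ((closure_le _).2 ?_) hx)).symm
    rintro _ ⟨j, hj, rfl⟩
    exact mem_cj_inv.2 (StdSz.mem_C1.2 (r i hi j hj).e.symm))⟩
  refine ⟨_, w, fun x hx => (w.mem_pre.1 ((closure_le (w.pre A)).2 ?_ hx)).2, fun a ha => ?_⟩
  · rintro _ ⟨i, hi, rfl⟩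
    exact w.mem_pre.2 ⟨subset_closure ⟨i, hi, rfl⟩,
      (F.dg_v (r i hi i hi).l).symm ▸ F.ιA (F.mem (r i hi i hi).l)⟩
  · have h1 : ∀ γ ∈ closure I, γ ∈ Γ0 ∧ ι γ ∈ w.hom.range := fun γ hγ => by
      induction hγ using closure_induction with
      | mem i hi => exact ⟨F.mem (r i hi i hi).l,
          w.mem_range.2 ⟨_, subset_closure ⟨i, hi, rfl⟩, F.dg_v (r i hi i hi).l⟩⟩
      | one => exact ⟨one_mem _, F.ι_one.symm ▸ one_mem _⟩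
      | mul x y _ _ hx hy =>
        exact ⟨mul_mem hx.1 hy.1, (F.ι_mul hx.1 hy.1).symm ▸ mul_mem hx.2 hy.2⟩
      | inv x _ hx => exact ⟨inv_mem hx.1, (F.ι_inv hx.1).symm ▸ inv_mem hx.2⟩
    exact w.mem_range.1 (F.ι_ρ ha ▸ (h1 _ (gen (F.h.mem a ha))).2)

omit [Finite G] [Finite Ω] in
theorem bt (F : Fm Γ Γ0 z A ρ t ι v) (hz : Cl Γ0 z z) (hq : Cl Γ0 z q) (hm : Cl Γ0 z (z * q))
    (c : Commute z q) (e : v z * v q = ι q * t * v (z * q)) :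
    Bt A t (ι z) (ι q) (t * v z) (t * v q) := by
  have ti : t⁻¹ = t := DaP.inv2 F.s.tt
  have sq : ∀ {a}, Cl Γ0 z a → t * v a * (t * v a) = ι a := fun h => by
    rw [mul_assoc, ← mul_assoc (v _), F.vt h, ← mul_assoc, F.s.tt, one_mul]
  have iv : ∀ {a}, Cl Γ0 z a → t * (t * v a) * t = (t * v a)⁻¹ := fun h => by
    rw [← mul_assoc, F.s.tt, one_mul, mul_inv_rev, F.vi h, ti]
  have ce : ∀ {a}, Cl Γ0 z a → t * v a ∈ Cs (A ⊓ C1 (ι a)) := fun h => StdSz.mem_Cs.2 fun x hx => by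
    have h1 := F.h.commute (le_normalizer hx.1) (F.N (F.mem h)) (StdSz.mem_C1.1 hx.2)
    rw [F.ρι (F.mem h)] at h1
    have h2 := F.vc h (F.h.mem x hx.1) h1
    rw [F.ι_ρ hx.1] at h2
    exact (StdSz.mem_Cs.1 F.s.tA x hx.1).mul_left h2
  have q0 := F.mem hq
  have e' : v q * v z = t * ι z * v (z * q) := by
    have := congrArg (·⁻¹) e
    simp only [mul_inv_rev, F.vi hz, F.vi hq, F.vi hm, ti, DaP.inv2 (F.ι2 hq)] at this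
    rw [this, ← mul_assoc, F.vtl hm, mul_assoc _ (v _),
      (F.vc hm q0 (c.symm.mul_right (Commute.refl q))).eq, F.ι_mul F.z0 q0]
    calc _ = t * ι z * (ι q * ι q) * v (z * q) := by group
      _ = _ := by rw [F.ι2 hq, mul_one]
  refine ⟨sq hz, sq hq, ?_, iv hz, iv hq, ce hz, ce hq⟩
  have k : ∀ {a}, Cl Γ0 z a → ∀ x, t * v a * (t * x) = ι a * (v a * x) := fun h x => by
    rw [← mul_assoc, ← mul_assoc, ← F.tvt h, ti]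
  show _ * _ = _ * _
  rw [k hz, k hq, e, e', (F.tι F.z0).eq, ← mul_assoc, ← mul_assoc, ← mul_assoc, ← mul_assoc,
    (F.ι_comm F.z0 q0 c).eq]

end Core

theorem core (b : Bas Γ Γ0 T z y n) (vf : VG Γ Γ0 (Γ0 ⊓ C1 z) V z γ m k) (o : Jo Γ Γ0 z q a₁ a₂ s w)
    (h : Mdl Γ Γ0 A ρ) (hZ : A ⊓ Cs A = ⊥) (st : St A ⊥ t)
    (hf : ∃ a ∈ A, a * a = 1 ∧ Cl Γ0 z (ρ a) ∧ IsConj t (t * a))
    (rl : ∀ ι v, Fm Γ Γ0 z A ρ t ι v → Mu Γ0 z v z q → Rl Γ0 z t v a₁ a₂) :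
    (∃ B, Sw B t ∧ (∀ x ∈ B, dg t x ∈ A) ∧ ∀ a ∈ A, ∃ x ∈ B, dg t x = a) ∨
      ∃ ζ ∈ A, ∃ ξ ∈ A, ρ ζ = z ∧ ρ ξ = q ∧ ∃ u₁ u₂, Bt A t ζ ξ u₁ u₂ := by
  obtain ⟨ζ, hζ, ζ2, e⟩ := h.lift_inv b.z0 b.z2
  obtain ⟨k, k1, k2, -⟩ := swap b h st hf hζ ζ2 e
  obtain ⟨x, x1, x2⟩ := exists_x3 b vf h hZ st hζ e k1 k2
  obtain ⟨u, u1, u2, u3⟩ := exists_v3 b vf le_rfl h hZ st hζ e x1 x2
  obtain ⟨ι, v, F⟩ := exists_fm b h hZ st hζ e u1 u2 u3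
  have hz : Cl Γ0 z z := ⟨1, one_mem _, by group⟩
  obtain ⟨hq, hm, k, -, f, e | e⟩ := StdX.Cal1.tri F b.le hz o.tr <;> obtain rfl : k = 1 := f.elim id id
  · exact .inl (Core.dbl F o (rl ι v F ⟨hz, hq, hm, o.tr.1, by rwa [F.ι_one, one_mul] at e⟩))
  · exact .inr ⟨_, F.ιA F.z0, _, F.ιA (F.mem hq), F.ρι F.z0, F.ρι (F.mem hq), _, _,
      Core.bt F hz hq hm o.tr.1 (by rwa [one_mul] at e)⟩

end Cfsg.Lib.SJ2
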