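import Cfsg.Agent.SJ2.EndB
import Cfsg.Agent.StdW.EndE

/-!
# Standard subgroups of type `J₂`: the order of a Sylow 2-subgroup
-/

set_option autoImplicit false
set_option linter.unusedSectionVars false

namespace Cfsg.Lib.SJ2

open Subgroup Cfsg.Lib.Gold Cfsg.Lib.Trans Cfsg.Lib.StdSz Cfsg.Lib.StdW
open Cfsg.Lib.StdM (Cl Tr)
open Cfsg.Lib.StdX (OF VG Tr3 Db Fm Mu Rl inj conj_of comm_of exists_sec)
open scoped commutatorElement

variable {G Ω : Type*} [Group G] [Group Ω] [Finite G] [Finite Ω] {Γ Γ0 T : Subgroup Ω} {z y : Ω} {n : ℕ}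
  {A O B : Subgroup G} {ρ ρ' : G → Ω} {t : G}

namespace EndD

theorem idx (m : Mdl Γ Γ0 B ρ') (b : Bas Γ Γ0 T z y n) :
    ∀ x ∈ Ns B, ∀ w ∈ Ns B, x ∉ StdW.Inn B → w ∉ StdW.Inn B → x * w ∈ StdW.Inn B := fun x hx w hw h1 h2 => by
  rw [← m.inn (mul_mem hx hw), m.mul x hx w hw]
  exact b.idx _ (m.memΓ x hx) _ (m.memΓ w hw) (fun e => h1 ((m.inn hx).1 e))
    fun e => h2 ((m.inn hw).1 e)

theorem perf (b : Bas Γ Γ0 T z y n) (h : Mdl Γ Γ0 A ρ) {X : Subgroup G} [IsSimpleGroup X]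
    (hAX : A ≤ X) : ⁅X, X⁆ = X := by
  rcases (inferInstance : (_root_.commutator X).Normal).eq_bot_or_eq_top with e | e
  · exfalso
    obtain ⟨a, ha, e1⟩ := h.surj z b.z0
    have h3 : ⁅X, X⁆ = ⊥ := by
      have := congrArg (map X.subtype) e
      rwa [_root_.commutator_def, map_commutator, ← MonoidHom.range_eq_map, range_subtype,
        Subgroup.map_bot] at this
    have h4 : a ∈ ⁅X, X⁆ := commutator_mono hAX hAX (h.perf ha)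
    rw [h3, mem_bot] at h4
    exact b.z1 (by rw [← e1, h4, h.one])
  · have := congrArg (map X.subtype) e
    rwa [_root_.commutator_def, map_commutator, ← MonoidHom.range_eq_map, range_subtype] at this

theorem O_le (s : St A O t) (D : Db Γ0 z A O B ρ ρ' t) : O ≤ Cs B ⊓ Cs (cj t B) := fun x hx => by
  have h1 : x ∈ Cs B := comm_symm D.cO hx
  refine mem_inf.2 ⟨h1, ?_⟩
  rw [← StdJ4.cj_Cs, mem_cj_t s.tt, ← (StdJ4.mem_C1.1 (s.Ole hx).2).eq]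
  simpa using h1

end EndD

section EndB
variable {σ : Ω} (b : Bas Γ Γ0 T z y n) (o : Out Γ Γ0 σ) (h : Mdl Γ Γ0 A ρ)
  (s : St A O t) (D : Db Γ0 z A O B ρ ρ' t) (m : Mdl Γ Γ0 B ρ')
include b o h s D m

variable {X : Subgroup G} [X.Normal] [IsSimpleGroup X] (hAX : A ≤ X)
include hAX

namespace EndD

theorem B2_le : cj t B ≤ X :=
  cj_le_nrm (B_le b o h s D m hAX) t

theorem low_conj {j k : G} (hu : j ∈ X) (h2 : j * j = 1) (hk : k ∈ X)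
    (h3 : k * j * k⁻¹ ∈ Ns B ⊓ Ns (cj t B)) (h0 : k * j * k⁻¹ ∈ StdW.Inn B) :
    ∃ R ≤ X ⊓ C1 j, (∀ a ∈ R, a * a = 1) ∧ 128 ≤ Nat.card R := by
  obtain ⟨Q, hQ, h4, h5⟩ := low_el b o m (m.cjg t) D.comm
    (x := k * j * k⁻¹) (by rw [show k * j * k⁻¹ * (k * j * k⁻¹) = k * (j * j) * k⁻¹ by group, h2]; group)
    h3.1 h3.2 ((m.inn h3.1).2 h0)
  have hy : k * j * k⁻¹ ∈ X := mul_mem (mul_mem hk hu) (inv_mem hk)
  refine ⟨cj k⁻¹ Q, le_inf (cj_le_nrm (hQ.trans (inf_le_left.trans (sup_le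
    (sup_le (B_le b o h s D m hAX) (B2_le b o h s D m hAX)) (zpowers_le_of_mem hy)))) _) ?_,
    ?_, by rw [card_cj]; exact h5⟩
  · have := cj_mono k⁻¹ (hQ.trans inf_le_right)
    rwa [Gold.cj_C1, show k⁻¹ * (k * j * k⁻¹) * k⁻¹⁻¹ = j by group] at this
  · rintro _ ⟨a, ha, rfl⟩
    change k⁻¹ * a * k⁻¹⁻¹ * (k⁻¹ * a * k⁻¹⁻¹) = 1
    rw [conj_mul, h4 a ha]; group

theorem alpha {x : G} (hx : x ∈ X) (h1 : x * t ∈ StdW.Inn B) (h2 : x * t ∈ StdW.Inn (cj t B)) : False := by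
  obtain ⟨a, ha, a', ha', c, hc, e⟩ := dec_Inn D.comm h1 h2
  refine t_not_mem b o h s D m hAX hc ?_
  have e2 : c * t = a'⁻¹ * (a⁻¹ * x) := by
    calc c * t = a'⁻¹ * (a⁻¹ * (a * a' * c * t)) := by group
      _ = _ := by rw [← e, mul_assoc x, s.tt, mul_one]
  rw [e2]
  exact mul_mem (inv_mem (B2_le b o h s D m hAX ha')) (mul_mem (inv_mem (B_le b o h s D m hAX ha)) hx)

theorem inner_of {j : G} (hj : j ∈ X) (jN : j * t ∈ Ns B ⊓ Ns (cj t B)) (j1 : j * t ∉ StdW.Inn B)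
    (j2 : j * t ∉ StdW.Inn (cj t B)) {x : G} (hx : x ∈ X) (xN : x ∈ Ns B ⊓ Ns (cj t B)) :
    x ∈ StdW.Inn B ∧ x ∈ StdW.Inn (cj t B) := by
  have tt := s.tt
  have both : ∀ x ∈ X, x ∈ Ns B ⊓ Ns (cj t B) → x ∉ StdW.Inn B → x ∉ StdW.Inn (cj t B) → False :=
    fun x hx xN x1 x2 => EndD.alpha b o h s D m hAX (mul_mem hx hj)
      (by rw [mul_assoc]; exact idx m b x (mem_inf.1 xN).1 _ (mem_inf.1 jN).1 x1 j1)
      (by rw [mul_assoc]; exact idx (m.cjg t) b x (mem_inf.1 xN).2 _ (mem_inf.1 jN).2 x2 j2)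
  have tN := mem_inf.1 (conj_t_N tt xN)
  have xN' := mem_inf.1 xN
  have e1 : x * (t * x * t⁻¹) ∈ StdW.Inn B ↔ (x ∈ StdW.Inn B ↔ x ∈ StdW.Inn (cj t B)) := by
    rw [Comp.mul_mem_iff_of_idx (idx m b) xN'.1 tN.1, conj_t_I tt]
  have e0 : t * x * t⁻¹ ∈ StdW.Inn (cj t B) ↔ x ∈ StdW.Inn B := by rw [← cj_Inn]; exact conj_mem_cj
  have e2 : x * (t * x * t⁻¹) ∈ StdW.Inn (cj t B) ↔ (x ∈ StdW.Inn (cj t B) ↔ x ∈ StdW.Inn B) := by
    rw [Comp.mul_mem_iff_of_idx (idx (m.cjg t) b) xN'.2 tN.2, e0]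
  have e5 : t * x * t⁻¹ ∈ X := Normal.conj_mem inferInstance _ hx t
  have e3 := both (x * (t * x * t⁻¹)) (mul_mem hx e5) (mul_mem xN (conj_t_N tt xN))
  have e4 := both x hx xN
  rw [e1, e2] at e3
  have e6 : x ∈ StdW.Inn B ↔ x ∈ StdW.Inn (cj t B) := by_contra fun k => e3 k fun k' => k k'.symm
  have e7 : x ∈ StdW.Inn B := by_contra fun k => e4 k fun k' => k (e6.2 k')
  exact ⟨e7, e6.1 e7⟩

end EndD

open EndD

theorem no_outer {j : G} (hj : j ∈ X ⊓ C1 t) (h2 : j * j = 1) : ρ j ≠ σ := by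
  intro h0
  have h1 : j ≠ 1 := fun e => o.σ0 (by rw [← h0, e, h.one]; exact one_mem _)
  have tt := s.tt
  obtain ⟨P, hP⟩ := exists_syl_t tt
  have hR := isSylowIn_inf_of_normal P X
  have hK := perf b h hAX
  have hM : ∀ x ∈ (P : Subgroup G) ⊓ X, x ∈ MM B (cj t B) := fun x hx =>
    two_le_MM b o h s D m P.isPGroup' hP hx.1
  have hut : t * j * t⁻¹ = j := by rw [← (StdJ4.mem_C1.1 hj.2).eq]; group
  have ub := (up_bound b o h s D m hAX hj h0 bot_le fun a ha => by rw [mem_bot.1 ha, one_mul]).2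
  by_cases hN : j ∈ Ns B
  swap
  · obtain ⟨k, hk, -, h3⟩ := Comp.thompson_in (C := Ns B ⊓ Ns (cj t B)) hK hR
      (fun x hx y hy h4 h5 => by
        have h6 := (MM_cases tt (hM x hx)).resolve_left h4
        have h7 := (MM_cases tt (hM y hy)).resolve_left h5
        have := mul_mem h6 (conj_t_N tt h7)
        rwa [show x * t * (t * (y * t) * t⁻¹) = x * (t * t) * y by group, tt, mul_one] at this)
      hj.1 h2
    obtain ⟨jN, e⟩ := ub.1 hN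
    have hjt : t * (j * t) * t⁻¹ = j * t := by
      rw [show t * (j * t) * t⁻¹ = t * j * t⁻¹ * t by group, hut]
    have j1 : j * t ∉ StdW.Inn B := fun e' => o.σ0 (e ▸ (m.inn jN).2 e')
    obtain ⟨i1, -⟩ := inner_of b o h s D m hAX hj.1
      ⟨jN, by rw [← StdJ4.cj_Ns]; exact (mem_cj_t tt).2 (hjt.symm ▸ jN)⟩ j1
      (by rwa [← conj_t_I tt, hjt]) (mul_mem (mul_mem hk hj.1) (inv_mem hk)) h3
    obtain ⟨R, hR1, hR2, hR3⟩ := low_conj b o h s D m hAX hj.1 h2 hk h3 i1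
    have := (up_bound b o h s D m hAX hj h0 hR1 hR2).1
    omega
  have u1 : j ∉ StdW.Inn B := fun e => o.σ0 (ub.2 hN ▸ (m.inn hN).2 e)
  have u2 : j ∉ StdW.Inn (cj t B) := by rwa [← conj_t_I tt, hut]
  have uN : j ∈ Ns (cj t B) := by rw [← StdJ4.cj_Ns, mem_cj_t tt, hut]; exact hN
  obtain ⟨z1, z2⟩ := z4 (N := Ns B ⊓ Ns (cj t B)) (R := (P : Subgroup G) ⊓ X) tt
    (fun x hx y hy => idx m b x hx.1 y hy.1) (fun x hx y hy => idx (m.cjg t) b x hx.2 y hy.2)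
    (fun x hx => conj_t_N tt hx) (fun x => conj_t_I tt) (fun x hx => ⟨hx.2, MM_cases tt (hM x hx)⟩)
    (fun x hx => EndD.alpha b o h s D m hAX hx) hj.1 ⟨hN, uN⟩ u1 u2
  obtain ⟨k, hk, h3⟩ := thompson_ab hK hR z1 z2 hj.1 h2 h1
  obtain ⟨R, hR1, hR2, hR3⟩ := low_conj b o h s D m hAX hj.1 h2 hk h3.1 h3.2
  have := (up_bound b o h s D m hAX hj h0 hR1 hR2).1
  omega

namespace EndD

theorem mem_O {k : G} (h1 : k ∈ Cs A) (h2 : k ∈ X ⊓ C1 t) : k ∈ O := by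
  refine (s.dec k ⟨h1, h2.2⟩).resolve_right ?_
  rintro ⟨c, hc, rfl⟩
  refine t_not_mem b o h s D m hAX (O_le s D hc) ?_
  rw [(StdJ4.mem_C1.1 (s.Ole hc).2).eq]
  exact h2.1

/-- the centraliser of `t` in `X` is inner on both factors -/
theorem cent_le : X ⊓ C1 t ≤ StdW.Inn B ⊓ StdW.Inn (cj t B) := by
  have hAt : A ≤ X ⊓ C1 t := fun a ha =>
    mem_inf.2 ⟨hAX ha, StdJ4.mem_C1.2 (StdJ4.mem_Cs.1 s.tA a ha).symm⟩
  intro w hy
  have hyN := s.cN hy.2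
  by_cases h0 : ρ w ∈ Γ0
  · obtain ⟨a, ha, h1⟩ := (h.inner hyN).1 h0
    have h2 := O_le s D (mem_O b o h s D m hAX h1 (mul_mem (inv_mem (hAt ha)) hy))
    obtain ⟨x, hx, e⟩ := D.onto a ha
    have h3 : t * x * t⁻¹ ∈ cj t B := conj_mem_cj.2 hx
    rw [show w = x * (t * x * t⁻¹) * (a⁻¹ * w) by rw [← dg_def, e]; group]
    exact mem_inf.2 ⟨mul_mem (mul_mem (le_Inn hx) (Cs_le_Inn (comm_symm D.comm h3))) (Cs_le_Inn h2.1),
      mul_mem (mul_mem (Cs_le_Inn (D.comm hx)) (le_Inn h3)) (Cs_le_Inn h2.2)⟩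
  · exfalso
    obtain ⟨a, ha, e⟩ := h.surj _ (b.idx _ (inv_mem (h.memΓ w hyN)) _ o.σΓ
      (fun e => h0 (inv_mem_iff.1 e)) o.σ0)
    have hw := mul_mem hy (hAt ha)
    have hwN := s.cN hw.2
    have e1 : ρ (w * a) = σ := by rw [h.mul w hyN a (le_normalizer ha), e, mul_inv_cancel_left]
    have h1 : w * a * (w * a) ∈ O := mem_O b o h s D m hAX
      ((h.ker _ (mul_mem hwN hwN)).1 (by rw [h.mul _ hwN _ hwN, e1, o.σ2])) (mul_mem hw hw)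
    obtain ⟨j, hj⟩ := odd_orderOf s.Oodd h1
    refine no_outer b o h s D m hAX (pow_mem hw (2 * j + 1)) (by
      rw [← pow_add, ← two_mul, pow_mul, pow_two, ← hj, pow_orderOf_eq_one]) ?_
    rw [h.pow hwN, pow_succ, pow_mul, pow_two, e1, o.σ2, one_pow, one_mul]

theorem of_comm {w : G} (hy : w ∈ X) (h1 : ⁅w, t⁆ ∈ StdW.Inn B ⊓ StdW.Inn (cj t B)) :
    w ∈ StdW.Inn B ⊓ StdW.Inn (cj t B) := by
  have tt := s.tt
  obtain ⟨a, ha, a', ha', c, hc, e⟩ := dec_Inn D.comm h1.1 h1.2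
  have hta : t * a * t⁻¹ ∈ cj t B := conj_mem_cj.2 ha
  have e1 : a⁻¹ * w * t * (a⁻¹ * w)⁻¹ = a' * (t * a * t⁻¹) * c * t := by
    calc a⁻¹ * w * t * (a⁻¹ * w)⁻¹ = a⁻¹ * ⁅w, t⁆ * (t * a * t⁻¹) * t := by
          rw [commutatorElement_def]; group
      _ = a' * (c * (t * a * t⁻¹)) * t := by rw [e]; group
      _ = _ := by rw [(StdJ4.mem_Cs.1 hc.2 _ hta).eq]; group
  obtain ⟨d, hd, e2⟩ : ∃ d ∈ cj t B, a⁻¹ * w * t * (a⁻¹ * w)⁻¹ = d * c * t := ⟨_, mul_mem ha' hta, e1⟩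
  have e3 : t * (d * c) * t⁻¹ = (d * c)⁻¹ := by
    rw [StdJ4.inv_of_sq tt, eq_inv_iff_mul_eq_one]
    calc t * (d * c) * t * (d * c) = t * (d * c * t * (d * c * t)) * t⁻¹ := by group
      _ = t * (a⁻¹ * w * (t * t) * (a⁻¹ * w)⁻¹) * t⁻¹ := by rw [← e2]; group
      _ = 1 := by rw [tt]; group
  have hd1 : d ∈ Cs B := comm_symm D.comm hd
  have hd2 : d ∈ Cs (cj t B) := by
    rw [← StdJ4.cj_Cs, mem_cj_t tt,
      show t * d * t⁻¹ = t * (d * c) * t⁻¹ * (t * c * t⁻¹)⁻¹ by group, e3]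
    exact mul_mem (inv_mem (mul_mem hd1 hc.1)) (inv_mem (conj_t_C tt hc).1)
  have hdc : d * c ∈ Cs B ⊓ Cs (cj t B) := mul_mem (mem_inf.2 ⟨hd1, hd2⟩) hc
  have haX : a⁻¹ * w ∈ X := mul_mem (inv_mem (B_le b o h s D m hAX ha)) hy
  have hX : d * c ∈ X := by
    rw [show d * c = d * c * t * t⁻¹ by group, ← e2,
      show a⁻¹ * w * t * (a⁻¹ * w)⁻¹ * t⁻¹ = a⁻¹ * w * (t * (a⁻¹ * w)⁻¹ * t⁻¹) by group]
    exact mul_mem haX (Normal.conj_mem inferInstance _ (inv_mem haX) t)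
  obtain ⟨i, hi⟩ := conj_of_odd (odd_orderOf (odd_CE b o h s D m) hdc) e3
  have h5 := cent_le b o h s D m hAX (x := ((d * c) ^ i)⁻¹ * (a⁻¹ * w))
    (mem_inf.2 ⟨mul_mem (inv_mem (pow_mem hX i)) haX, StdJ4.mem_C1.2 (by
      show _ * _ = _ * _
      calc ((d * c) ^ i)⁻¹ * (a⁻¹ * w) * t
          = ((d * c) ^ i)⁻¹ * (a⁻¹ * w * t * (a⁻¹ * w)⁻¹) * (a⁻¹ * w) := by group
        _ = _ := by rw [e2, ← hi]; group)⟩)
  have h6 := pow_mem hdc i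
  rw [show w = a * ((d * c) ^ i * (((d * c) ^ i)⁻¹ * (a⁻¹ * w))) by group]
  exact mul_mem (mem_inf.2 ⟨le_Inn ha, Cs_le_Inn (D.comm ha)⟩)
    (mul_mem (mem_inf.2 ⟨Cs_le_Inn h6.1, Cs_le_Inn h6.2⟩) h5)

end EndD

theorem syl_le {Q : Subgroup G} (hQ : Q ≤ X) (h2 : IsPGroup 2 Q) : Nat.card Q ≤ 2 ^ (2 * n) := by
  obtain ⟨P, hP⟩ := exists_syl_t s.tt
  have hR := isSylowIn_inf_of_normal P X
  have h1 : (P : Subgroup G) ⊓ X ≤ StdW.Inn B ⊓ StdW.Inn (cj t B) := by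
    by_contra hc
    obtain ⟨w, hy, h3, h4⟩ := Solv.PG.exists_not_mem_commutator_mem P.isPGroup'.isNilpotent
      inf_le_left (fun g hg => mem_Ns_inf (le_normalizer hg) (mem_Ns_iff.2 (cj_eq_of_normal g X))) hc
    exact h3 (EndD.of_comm b o h s D m hAX hy.2 (h4 t hP).1)
  have key : ∀ {B : Subgroup G} {r : G → Ω} (m : Mdl Γ Γ0 B r) {R : Subgroup G}, IsPGroup 2 R →
      R ≤ StdW.Inn B → Nat.card R ≤ Nat.card ↥(R ⊓ Cs B) * 2 ^ n := by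
    intro B r m R hR h3
    rw [m.card_img (h3.trans Inn_le)]
    refine Nat.mul_le_mul_left _ (b.syl _ (fun γ hγ => ?_) (m.two_img hR))
    obtain ⟨x, hx, hN, rfl⟩ := m.mem_img.1 hγ
    exact (m.inn hN).2 (h3 hx)
  have h3 := key m hR.isPGroup (h1.trans inf_le_left)
  have h4 := hR.isPGroup.to_le (inf_le_left (b := Cs B))
  have h5 := key (m.cjg t) h4 (inf_le_left.trans (h1.trans inf_le_right))
  have h6 : (P : Subgroup G) ⊓ X ⊓ Cs B ⊓ Cs (cj t B) = ⊥ := by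
    rw [eq_bot_iff]
    intro x hx
    obtain ⟨k, hk⟩ := Comp.Tw.of_mem h4 hx.1
    have h7 := odd_orderOf (odd_CE b o h s D m) (mem_inf.2 ⟨hx.1.2, hx.2⟩)
    exact orderOf_eq_one_iff.1 ((Nat.coprime_self _).1 ((Nat.Coprime.pow_right k
      (Nat.coprime_two_right.2 h7)).coprime_dvd_right (orderOf_dvd_of_pow_eq_one hk)))
  rw [h6, card_bot, one_mul] at h5
  rw [two_mul, pow_add]
  exact (hR.card_le h2 hQ).trans (h3.trans (Nat.mul_le_mul_right _ h5))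

end EndB

end Cfsg.Lib.SJ2
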