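import Cfsg.Agent.SJ2.Basic
import Cfsg.Agent.StdW.Dg
import Cfsg.Agent.GW.Lift
import Cfsg.Agent.S0205

/-!
# Standard subgroups of type `J₂`: transport from the model
-/

set_option autoImplicit false
set_option linter.unusedSectionVars false
set_option linter.unusedVariables false

namespace Cfsg.Lib.SJ2

open Subgroup Cfsg.Lib.Gold Cfsg.Lib.Trans Cfsg.Lib.StdSz Cfsg.Lib.StdW
open Cfsg.Lib.StdM (Cl)
open Cfsg.Lib.StdX (OF VG Tr3 Db Fm Mu Rl inj conj_of comm_of exists_sec)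
open scoped commutatorElement

variable {G Ω : Type*} [Group G] [Group Ω] [Finite G] [Finite Ω] {Γ Γ0 T Y V : Subgroup Ω}
  {z q y y₂ s₁ s₂ r r' σ γ m k : Ω} {n : ℕ} {A O : Subgroup G} {ρ : G → Ω} {t : G}

namespace Tr

variable (h : Mdl Γ Γ0 A ρ)
include h

theorem ex_pre (Q : Subgroup Ω) : ∃ U : Subgroup G, ∀ a, a ∈ U ↔ a ∈ A ∧ ρ a ∈ Q :=
  ⟨A ⊓ (Q.comap h.hom).map (Ns A).subtype, fun a => and_congr_right fun ha =>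
    ⟨fun ⟨_, hx, e⟩ => e ▸ hx, fun e => ⟨⟨a, le_normalizer ha⟩, e, rfl⟩⟩⟩

theorem mu {a c : G} (ha : a ∈ A) (hc : c ∈ A) : ρ (a * c) = ρ a * ρ c :=
  h.mul _ (le_normalizer ha) _ (le_normalizer hc)

theorem K4_to {a c x : G} (ha : a ∈ A) (hc : c ∈ A) (hx : x ∈ K4 a c) : ρ x ∈ K4 (ρ a) (ρ c) := by
  obtain ⟨U, hU⟩ := ex_pre h (K4 (ρ a) (ρ c))
  exact ((hU x).1 (K4_le.2 ⟨(hU a).2 ⟨ha, l_K4 _ _⟩, (hU c).2 ⟨hc, r_K4 _ _⟩⟩ hx)).2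

theorem K4_img {a c : G} (ha : a ∈ A) (hc : c ∈ A) : K4 (ρ a) (ρ c) ≤ h.img (K4 a c) :=
  K4_le.2 ⟨h.mem_img.2 ⟨a, l_K4 _ _, le_normalizer ha, rfl⟩,
    h.mem_img.2 ⟨c, r_K4 _ _, le_normalizer hc, rfl⟩⟩

theorem K4_lift {a c : G} (ha : a ∈ A) (hc : c ∈ A) {e : Ω} (he : e ∈ K4 (ρ a) (ρ c)) :
    ∃ x ∈ K4 a c, ρ x = e :=
  let ⟨x, hx, _, e⟩ := h.mem_img.1 (K4_img h ha hc he)
  ⟨x, hx, e⟩

variable (hZ : A ⊓ Cs A = ⊥)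
include hZ

theorem mem_of {U : Subgroup G} (hU : U ≤ A) {x : G} (hx : x ∈ A) (e : ρ x ∈ h.img U) : x ∈ U :=
  let ⟨_, hy, _, e'⟩ := h.mem_img.1 e
  inj h hZ (hU hy) hx e' ▸ hy

theorem K4_of {a c x : G} (ha : a ∈ A) (hc : c ∈ A) (hx : x ∈ A) (e : ρ x ∈ K4 (ρ a) (ρ c)) :
    x ∈ K4 a c := mem_of h hZ (K4_le.2 ⟨ha, hc⟩) hx (K4_img h ha hc e)

theorem Ns_iff {a c g : G} (ha : a ∈ A) (hc : c ∈ A) (hg : g ∈ Ns A) :
    g ∈ Ns (K4 a c) ↔ ρ g ∈ Ns (K4 (ρ a) (ρ c)) := by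
  have l : K4 a c ≤ A := K4_le.2 ⟨ha, hc⟩
  refine ⟨fun e => mem_normalizer_of_cj_le (cj_le_iff.2 fun x hx => ?_),
    fun e => mem_normalizer_of_cj_le (cj_le_iff.2 fun x hx => ?_)⟩
  · obtain ⟨x, hx', rfl⟩ := K4_lift h ha hc hx
    rw [← h.conj hg (le_normalizer (l hx'))]
    exact K4_to h ha hc (mem_normalizer_conj e hx')
  · refine K4_of h hZ ha hc (mem_normalizer_conj hg (l hx)) ?_
    rw [h.conj hg (le_normalizer (l hx))]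
    exact mem_normalizer_conj e (K4_to h ha hc hx)

theorem eq1 {a : G} (ha : a ∈ A) (e : ρ a = 1) : a = 1 := inj h hZ ha (one_mem _) (e.trans h.one.symm)

theorem sq {a : G} (ha : a ∈ A) (e : ρ a * ρ a = 1) : a * a = 1 :=
  eq1 h hZ (mul_mem ha ha) ((mu h ha ha).trans e)

theorem cl {a c : G} (ha : a ∈ A) (hc : c ∈ A) (e : Cl Γ0 (ρ a) (ρ c)) : Cl A a c := by
  obtain ⟨l, hl, e⟩ := e
  obtain ⟨l, hl', rfl⟩ := h.surj l hl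
  exact ⟨l, hl', conj_of h hZ (le_normalizer hl') ha hc e⟩

variable {U : Subgroup G} {Q : Subgroup Ω} (hQ : Q ≤ Γ0) (hU : ∀ a, a ∈ U ↔ a ∈ A ∧ ρ a ∈ Q)
include hQ hU

theorem ex_iso : ∃ ψ : U ≃* Q, ∀ x : U, (ψ x : Ω) = ρ x :=
  ⟨MulEquiv.ofBijective (MonoidHom.mk' (fun a : U => (⟨ρ a, ((hU a).1 a.2).2⟩ : Q)) fun a c =>
    Subtype.ext (mu h ((hU a).1 a.2).1 ((hU c).1 c.2).1)) ⟨fun a c e => Subtype.ext
      (inj h hZ ((hU a).1 a.2).1 ((hU c).1 c.2).1 (congrArg Subtype.val e)), fun d => by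
        obtain ⟨a, ha, e⟩ := h.surj d (hQ d.2)
        exact ⟨⟨a, (hU a).2 ⟨ha, e ▸ d.2⟩⟩, Subtype.ext e⟩⟩, fun _ => rfl⟩

theorem perf (p : Q ≤ ⁅Q, Q⁆) : U ≤ ⁅U, U⁆ := fun a ha => by
  have l : ⁅U, U⁆ ≤ A := (commutator_le_self U).trans fun a ha => ((hU a).1 ha).1
  refine mem_of h hZ l ((hU a).1 ha).1 (commutator_le.2 (fun c hc d hd => ?_) (p ((hU a).1 ha).2))
  obtain ⟨c, hc', rfl⟩ := h.surj c (hQ hc)
  obtain ⟨d, hd', rfl⟩ := h.surj d (hQ hd)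
  have e := commutator_mem_commutator ((hU c).2 ⟨hc', hc⟩) ((hU d).2 ⟨hd', hd⟩)
  exact h.mem_img.2 ⟨_, e, le_normalizer (l e), h.comm (le_normalizer hc') (le_normalizer hd')⟩

end Tr

open Tr

theorem Ja.lift (b : Bas Γ Γ0 T z y n) (j : Ja Γ Γ0 Y z q y y₂ s₁ s₂ r r') (h : Mdl Γ Γ0 A ρ)
    (hZ : A ⊓ Cs A = ⊥) : ∃ (Y' : Subgroup G) (z' q' y' y₂' s₁' s₂' u u' : G),
      Ja (Ns A) A Y' z' q' y' y₂' s₁' s₂' u u' ∧ ρ z' = z ∧ ρ q' = q ∧ ρ y' = y ∧ ρ y₂' = y₂ ∧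
        ρ s₁' = s₁ ∧ ρ s₂' = s₂ ∧ ρ u = r ∧ ρ u' = r' ∧ ∀ a ∈ A, a ∈ Y' ↔ ρ a ∈ Y := by
  have : Fact (Nat.Prime 2) := ⟨Nat.prime_two⟩
  obtain ⟨U, hU⟩ := ex_pre h Y
  obtain ⟨z, hz, rfl⟩ := h.surj z (j.YA j.zY)
  obtain ⟨q, hq, rfl⟩ := h.surj q (j.YA j.qY)
  obtain ⟨s₁, hs₁, rfl⟩ := h.surj s₁ (j.YA j.s₁Y)
  obtain ⟨y, hy, rfl⟩ := h.surj y j.yA
  obtain ⟨y₂, hy₂, rfl⟩ := h.surj y₂ j.y₂A
  obtain ⟨s₂, hs₂, rfl⟩ := h.surj s₂ j.s₂A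
  obtain ⟨r, hr, rfl⟩ := h.surj r j.rA
  obtain ⟨r', hr', rfl⟩ := h.surj r' j.r'A
  have N : ∀ {a}, a ∈ A → a ∈ Ns A := fun ha => le_normalizer ha
  have UA : U ≤ A := fun a ha => ((hU a).1 ha).1
  have UY : ∀ {a}, a ∈ U → ρ a ∈ Y := fun ha => ((hU _).1 ha).2
  have ne1 : ∀ {a}, ρ a ≠ 1 → a ≠ 1 := fun e e' => e (by rw [e', h.one])
  have ne : ∀ {a c}, ρ a ≠ ρ c → a ≠ c := fun e e' => e (by rw [e'])
  have cm : ∀ {a c}, a ∈ A → c ∈ A → Commute (ρ a) (ρ c) → Commute a c := fun ha hc =>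
    comm_of h hZ (N ha) hc
  have c1 : ∀ {c}, c ∈ A → Y ≤ C1 (ρ c) → U ≤ C1 c := fun hc e a ha =>
    StdSz.mem_C1.2 (cm (UA ha) hc (StdSz.mem_C1.1 (e (UY ha))))
  have p3 : ∀ {a}, a ∈ A → ρ a ^ 3 = 1 → a ^ 3 = 1 := fun ha e =>
    eq1 h hZ (pow_mem ha 3) ((h.pow (N ha) 3).trans e)
  have l₁ : K4 z q ≤ A := K4_le.2 ⟨hz, hq⟩
  have l₂ : K4 y y₂ ≤ A := K4_le.2 ⟨hy, hy₂⟩
  have zU := (hU z).2 ⟨hz, j.zY⟩
  have qU := (hU q).2 ⟨hq, j.qY⟩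
  obtain ⟨ψ, hψ⟩ := ex_iso h hZ j.YA hU
  refine ⟨U, z, q, y, y₂, s₁, s₂, r, r', ⟨UA, zU, qU, (hU _).2 ⟨hs₁, j.s₁Y⟩, hy, hy₂, hs₂, hr, hr',
    sq h hZ hz j.zz, sq h hZ hq j.qq, sq h hZ hy j.yy, sq h hZ hy₂ j.y₂y₂, ne1 j.z1, ne1 j.q1,
    ne j.zq, ne1 j.y1, ne1 j.y₂1, ne j.yy₂, cm hz hq j.czq, cm hy hy₂ j.cyy₂, c1 hy j.Yy,
    c1 hy₂ j.Yy₂, c1 hs₂ j.Ys₂, fun e he eU => eq1 h hZ (l₂ he) (j.disj _ (K4_to h hy hy₂ he) (UY eU)),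
    conj_of h hZ (N hs₁) hz hq j.s₁z,
    conj_of h hZ (N hs₁) hq (mul_mem hz hq) (j.s₁q.trans (mu h hz hq).symm), p3 hs₁ j.s₁3,
    conj_of h hZ (N hs₂) hy hy₂ j.s₂y,
    conj_of h hZ (N hs₂) hy₂ (mul_mem hy hy₂) (j.s₂y₂.trans (mu h hy hy₂).symm), p3 hs₂ j.s₂3,
    have := j.simple; ψ.isSimpleGroup, Tr.perf h hZ j.YA hU j.perf, ?_, ?_, fun g hg e => ?_,
    fun g hg e => K4_of h hZ hz hq (UA hg) (j.CY _ (UY hg) (h.commute (N (UA hg)) (N hz) e)),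
    fun a ha a2 => (j.cls _ (h.mem a ha) (by rw [← mu h ha ha, a2, h.one])).imp (eq1 h hZ ha)
      (Or.imp (cl h hZ hz ha) (cl h hZ hy ha)),
    fun e he => cl h hZ hy (mul_mem hy (l₁ he)) (by
      rw [mu h hy (l₁ he)]; exact j.ye _ (K4_to h hz hq he)),
    fun g hg e => (Ns_iff h hZ hy hy₂ hg).2 (j.cy _ (h.memΓ g hg) (h.commute hg (N hy) e)),
    fun g hg e => cm hg hy₂ (j.cy0 _ (h.mem g hg) (h.commute (N hg) (N hy) e)),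
    fun g hg e e' => ?_,
    fun g hg e₁ e₂ e₃ => comm_of h hZ hg hy₂ (j.cy1 _ (h.memΓ g hg) (h.commute hg (N hy) e₁)
      (h.commute hg (N hz) e₂) (h.commute hg (N hq) e₃)),
    sq h hZ hr j.rr, sq h hZ hr' j.r'r', cm hr hr' j.crr', cm hr hz j.rz, cm hr hq j.rq,
    cm hr' hz j.r'z, cm hr' hq j.r'q, fun x hx e he => ?_⟩, rfl, rfl, rfl, rfl, rfl, rfl, rfl, rfl,
    fun a ha => (hU a).trans (and_iff_right ha)⟩
  · have k : ∀ Q ≤ U, h.img Q ≤ Y := fun Q hQ γ hγ => by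
      obtain ⟨x, hx, -, rfl⟩ := h.mem_img.1 hγ
      exact UY (hQ hx)
    refine isSylowIn_of_maximal (K4_le.2 ⟨zU, qU⟩) (fun x => ?_) fun Q hQ h1 h2 x hx =>
      K4_of h hZ hz hq (UA (h2 hx)) ((j.syl.eq_of_le (h.two_img hQ) (K4_le.2
        ⟨h.mem_img.2 ⟨z, h1 (l_K4 _ _), N hz, rfl⟩, h.mem_img.2 ⟨q, h1 (r_K4 _ _), N hq, rfl⟩⟩)
          (k Q h2)).le (h.mem_img.2 ⟨x, hx, N (UA (h2 hx)), rfl⟩))
    obtain ⟨l, hl⟩ := j.syl.isPGroup ⟨_, K4_to h hz hq x.2⟩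
    exact ⟨l, Subtype.ext (eq1 h hZ (pow_mem (l₁ x.2) _)
      ((h.pow (N (l₁ x.2)) _).trans (congrArg Subtype.val hl)))⟩
  · obtain ⟨f, hf, f5, f1⟩ := j.five
    obtain ⟨f, hf', rfl⟩ := h.surj f (j.YA hf)
    exact ⟨f, (hU f).2 ⟨hf', hf⟩, eq1 h hZ (pow_mem hf' 5) ((h.pow (N hf') 5).trans f5), ne1 f1⟩
  · obtain ⟨c, hc, e1⟩ := j.NY _ (UY hg) ((Ns_iff h hZ hz hq (N (UA hg))).1 e)
    obtain ⟨c, hc', rfl⟩ := K4_lift h hz hq hc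
    exact ⟨c, hc', e1.imp (inj h hZ (UA hg) (l₁ hc')) (Or.imp
      (fun e => inj h hZ (UA hg) (mul_mem (l₁ hc') hs₁) (e.trans (mu h (l₁ hc') hs₁).symm))
      fun e => inj h hZ (UA hg) (mul_mem (l₁ hc') (mul_mem hs₁ hs₁)) (by
        rw [e, mu h (l₁ hc') (mul_mem hs₁ hs₁), mu h hs₁ hs₁]))⟩
  · obtain ⟨w, hw, a, ha, e1⟩ := j.cV _ (h.memΓ g hg) (h.commute hg (N hy) e) (h.commute hg (N hy₂) e')
    obtain ⟨w, hw', rfl⟩ := K4_lift h hy hy₂ hw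
    obtain ⟨a, ha', rfl⟩ := h.surj a (j.YA ha)
    rw [← mu h (l₂ hw') ha'] at e1
    have m := N (mul_mem (l₂ hw') ha')
    exact ⟨w, hw', a, (hU a).2 ⟨ha', ha⟩, h.mem_Cs_of m hg
      (inv_mul_eq_one.1 (b.cen (mul_mem (inv_mem (h.memΓ _ m)) (h.memΓ g hg)) e1))⟩
  · have xA : x ∈ A := by
      rcases hx with rfl | rfl | rfl
      exacts [hr, hr', mul_mem hr hr']
    obtain ⟨e1, e2⟩ := j.rV (ρ x) (hx.imp (congrArg ρ) (Or.imp (congrArg ρ)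
      fun e => by rw [e, mu h hr hr'])) _ (K4_to h hy hy₂ he)
    rw [← h.comm (N xA) (N (l₂ he))] at e1 e2
    exact ⟨K4_of h hZ hz hq (commutator_le_self A (commutator_mem_commutator xA (l₂ he))) e1,
      fun e => eq1 h hZ (l₂ he) (e2 (by rw [e, h.one]))⟩

theorem exists_cf (b : Bas Γ Γ0 T z y n) (o : Out Γ Γ0 σ) (vf : VG Γ Γ0 (Γ0 ⊓ C1 z) V z γ m k)
    (j : Ja Γ Γ0 Y z q y y₂ s₁ s₂ r r') (lk : T ⊓ C1 y = K4 z q ⊔ K4 y y₂) (h : Mdl Γ Γ0 A ρ)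
    (hZ : A ⊓ Cs A = ⊥) (s : St A O t) : ∃ (Y' : Subgroup G) (z' q' y' y₂' s₁' s₂' u u' : G),
      Cf A O Y' t z' q' y' y₂' s₁' s₂' u u' ∧ ρ z' = z ∧ ρ q' = q := by
  obtain ⟨U, z, q, y, y₂, s₁, s₂, r, r', i, rfl, rfl, rfl, rfl, rfl, rfl, rfl, rfl, hU⟩ :=
    j.lift b h hZ
  have N : ∀ {a}, a ∈ A → a ∈ Ns A := fun ha => le_normalizer ha
  have At : A ≤ C1 t := fun a ha => StdSz.mem_C1.2 (StdSz.mem_Cs.1 s.tA a ha).symm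
  have hz := i.YA i.zY
  have hq := i.YA i.qY
  have hP : ∀ a, a ∈ A ⊓ C1 z ↔ a ∈ A ∧ ρ a ∈ Γ0 ⊓ C1 (ρ z) := fun a => and_congr_right fun ha =>
    ⟨fun e => ⟨h.mem a ha, StdSz.mem_C1.2 (h.commute (N ha) (N hz) (StdSz.mem_C1.1 e))⟩,
      fun e => StdSz.mem_C1.2 (comm_of h hZ (N ha) hz (StdSz.mem_C1.1 e.2))⟩
  have l₁ : K4 z q ≤ A := K4_le.2 ⟨hz, hq⟩
  have l₂ : K4 y y₂ ≤ A := K4_le.2 ⟨i.yA, i.y₂A⟩
  refine ⟨U, z, q, y, y₂, s₁, s₂, r, r', ⟨i, s, hZ, fun E hE e2 => ?_, fun J hJ p => ?_,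
    perf h hZ inf_le_left hP vf.perf, fun a ha c₁ c₂ c₃ c₄ => ?_, fun e he c => ?_⟩, rfl, rfl⟩
  · have e := h.card_img (hE.trans s.cN)
    have l : E ⊓ Cs A ≤ zpowers t := fun x hx => by
      rcases s.two_elt hx.2 (hE hx.1) (k := 1) (by rw [pow_one, pow_two, e2 x hx.1]) with rfl | rfl
      exacts [one_mem _, mem_zpowers _]
    have ct : Nat.card (zpowers t) = 2 := by
      have : Fact (Nat.Prime 2) := ⟨Nat.prime_two⟩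
      rw [Nat.card_zpowers, orderOf_eq_prime (by rw [pow_two, s.tt]) s.t1]
    have l' := Subgroup.card_le_of_le l
    obtain ⟨o1, o2⟩ := o.elem b (h.img_le E) fun x hx => by
      obtain ⟨x, hx', hn, rfl⟩ := h.mem_img.1 hx
      rw [← h.mul _ hn _ hn, e2 x hx', h.one]
    rw [ct] at l'
    refine ⟨e ▸ Nat.mul_le_mul l' o1, fun e3 => ?_⟩
    obtain ⟨e4, e5⟩ : Nat.card (E ⊓ Cs A : Subgroup G) = 2 ∧ Nat.card (h.img E) = 16 := by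
      rw [e3] at e
      constructor <;> nlinarith
    obtain ⟨c, hc, e6⟩ := o2 e5
    obtain ⟨a, ha, rfl⟩ := h.surj c hc
    have tE : t ∈ cj a E := by
      rw [← conj_eq_of_commute (StdSz.mem_C1.1 (At ha))]
      exact conj_mem_cj.2
        ((Subgroup.eq_of_le_of_card_ge l (ct.trans e4.symm).le).ge (mem_zpowers t)).1
    have dec : ∀ x ∈ A, ∀ u ∈ cj a E, ρ x = ρ u → u = x ∨ u = x * t := fun x hx u hu e => by
      have ut := cj_le_of_mem_of_le (At ha) hE hu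
      have u2 : u * u = 1 := by
        obtain ⟨u, hu, rfl⟩ := hu
        change a * u * a⁻¹ * (a * u * a⁻¹) = 1
        rw [conj_sq, e2 u hu]; group
      have k1 := h.mem_Cs_of (N hx) (s.cN ut) e
      have k2 := StdSz.mem_Cs.1 k1 x hx
      have k3 : x * x * (x⁻¹ * u * (x⁻¹ * u)) = 1 := by
        rw [← u2, ← k2.mul_mul_mul_comm, mul_inv_cancel_left]
      have k4 : x⁻¹ * u * (x⁻¹ * u) = 1 := mem_bot.1 (hZ.le
        (mem_inf.2 ⟨eq_inv_of_mul_eq_one_right k3 ▸ inv_mem (mul_mem hx hx), mul_mem k1 k1⟩))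
      exact (s.two_elt k1 (mul_mem (inv_mem (At hx)) ut) (k := 1) (by rw [pow_one, pow_two, k4])).imp
        (fun e => (inv_mul_eq_one.1 e).symm) inv_mul_eq_iff_eq_mul.1
    rw [lk] at e6
    refine ⟨a, ha, le_antisymm (fun u hu => ?_) (sup_le (fun x hx => ?_) (zpowers_le.2 tE))⟩
    · obtain ⟨x, hx, -, e7⟩ := h.mem_img.1 ((sup_le
        ((K4_img h hz hq).trans (map_mono (comap_mono le_sup_left)))
        ((K4_img h i.yA i.y₂A).trans (map_mono (comap_mono le_sup_right))) :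
          _ ≤ h.img (K4 z q ⊔ K4 y y₂)) (e6.le (x := ρ u) (by
            obtain ⟨u, hu, rfl⟩ := hu
            change ρ (a * u * a⁻¹) ∈ _
            rw [h.conj (N ha) (s.cN (hE hu))]
            exact conj_mem_cj.2 (h.mem_img.2 ⟨u, hu, s.cN (hE hu), rfl⟩))))
      rcases dec x (sup_le l₁ l₂ hx) u hu e7 with rfl | rfl
      exacts [mem_sup_left hx, mul_mem_sup hx (mem_zpowers t)]
    · obtain ⟨W, hW⟩ := ex_pre h (K4 (ρ z) (ρ q) ⊔ K4 (ρ y) (ρ y₂))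
      obtain ⟨xA, e7⟩ := (hW x).1 ((sup_le
        (fun x hx => (hW x).2 ⟨l₁ hx, mem_sup_left (K4_to h hz hq hx)⟩)
        (fun x hx => (hW x).2 ⟨l₂ hx, mem_sup_right (K4_to h i.yA i.y₂A hx)⟩) :
          K4 z q ⊔ K4 y y₂ ≤ W) hx)
      obtain ⟨u, hu, hn, e8⟩ := h.mem_img.1 (mem_cj.1 (e6.ge e7))
      have m := conj_mem_cj (g := a).2 hu
      rcases dec x xA _ m (by rw [h.conj (N ha) hn, e8]; group) with e9 | e9
      · exact e9 ▸ m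
      · exact (mul_mem_cancel_right tE).1 (e9 ▸ m)
  · have p' := le_antisymm (commutator_le_self J) p
    have Ot : O ≤ C1 t := s.Ole.trans inf_le_right
    refine GW.Lift.perfect_le_of_le_sup p' (GW.Lift.perfect_le_of_le_sup (O := zpowers t) p'
      (p.trans (commutator_le.2 fun x hx w hw => ?_)) (zpowers_le.2 (StdJ4.Cs_le_Ns _
        (StdSz.mem_Cs.2 fun x hx => (StdSz.mem_C1.1 (sup_le At Ot hx)).symm))) inferInstance)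
      ((s.Ole.trans inf_le_left).trans (StdJ4.Cs_le_Ns A)) (Cfsg.Agent.S0205.result s.Oodd)
    have m := hJ (commutator_le_self J (commutator_mem_commutator hx hw))
    obtain ⟨a, ha, e⟩ := (h.inner (s.cN m)).1 (by
      rw [h.comm (s.cN (hJ hx)) (s.cN (hJ hw))]
      exact b.cmm_mem (h.memΓ _ (s.cN (hJ hx))) (h.memΓ _ (s.cN (hJ hw))))
    refine (mul_mem_cancel_left (mem_sup_left (mem_sup_left (inv_mem ha)))).1 ?_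
    rcases s.dec _ (mem_inf.2 ⟨e, mul_mem (inv_mem (At ha)) m⟩) with e | ⟨c, hc, e⟩
    · exact mem_sup_left (mem_sup_right e)
    · exact e ▸ mul_mem (mem_sup_right (mem_zpowers t)) (mem_sup_left (mem_sup_right hc))
  · obtain ⟨ψ, hψ⟩ := ex_iso h hZ inf_le_left hP
    obtain ⟨g, hg, h3⟩ := vf.aut (ψ.symm.trans (((A ⊓ C1 z).normalizerMonoidHom ⟨a, ha⟩).trans ψ))
    have h4 : ∀ x ∈ A ⊓ C1 z, ρ (a * x * a⁻¹) = g * ρ x * g⁻¹ := fun x hx => by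
      have h5 := h3 (ψ ⟨x, hx⟩)
      rw [MulEquiv.trans_apply, MulEquiv.symm_apply_apply, MulEquiv.trans_apply, hψ, hψ] at h5
      exact h5
    have h5 : ∀ {x}, x ∈ A → U ≤ C1 x → Commute a x → Commute g (ρ x) := fun hx e c =>
      commute_of_conj_eq (by
        rw [← h4 _ ⟨hx, StdSz.mem_C1.2 (StdSz.mem_C1.1 (e i.zY)).symm⟩, conj_eq_of_commute c])
    obtain ⟨w, hw, c, hc, e⟩ := j.cV g hg.1 (h5 i.yA i.Yy c₁) (h5 i.y₂A i.Yy₂ c₂)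
    have e1 := inv_mul_eq_one.1 (b.cen (mul_mem (inv_mem (b.le (mul_mem
      (K4_le.2 ⟨j.yA, j.y₂A⟩ hw) (j.YA hc)))) hg.1) e)
    have e2 : ρ s₂ * w * (ρ s₂)⁻¹ = w := conj_eq_of_commute (by
      simpa [← e1] using ((h5 i.s₂A i.Ys₂ c₃).mul_left (StdSz.mem_C1.1 (j.Ys₂ hc)).inv_left).symm)
    have w1 : w = 1 := by
      rcases (mem_K4 j.yy j.y₂y₂ j.cyy₂).1 hw with rfl | rfl | rfl | rfl
      · rfl
      · exact absurd (e2.symm.trans j.s₂y) j.yy₂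
      · exact absurd (mul_eq_right.1 (j.s₂y₂.symm.trans e2)) j.y1
      · rw [← conj_mul, j.s₂y, j.s₂y₂, ← mul_assoc] at e2
        exact absurd (mul_eq_right.1 (mul_right_cancel e2)) j.y₂1
    rw [w1, one_mul] at e1
    obtain ⟨x, hx, e3⟩ := K4_lift h hz hq (inv_mem (j.CY g (e1 ▸ hc) (StdSz.mem_C1.1 hg.2)))
    refine ⟨x, hx, StdSz.mem_Cs.2 fun u hu => commute_of_conj_eq ?_⟩
    rw [show x * a * u * (x * a)⁻¹ = x * (a * u * a⁻¹) * x⁻¹ by group]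
    exact conj_of h hZ (N (l₁ hx)) (mem_normalizer_conj ha hu).1 hu.1 (by rw [h4 u hu, e3]; group)
  · refine (b.cent_cent (a := ρ z) ⟨1, one_mem _, by group⟩ (h.memΓ e (N (l₁ he)))
      (StdSz.mem_Cs.2 fun x hx => ?_)).imp (eq1 h hZ (l₁ he)) (inj h hZ (l₁ he) hz)
    obtain ⟨x, hx', rfl⟩ := h.surj x hx.1
    exact h.commute (N (l₁ he)) (N hx') (StdSz.mem_Cs.1 c x ((hP x).2 ⟨hx', hx⟩))

end Cfsg.Lib.SJ2
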