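import Cfsg.Agent.SJ2.Fr1
import Cfsg.Agent.StdX.FrontA

/-!
# Standard subgroups of type `J₂`: the reduction to `C_{C(A)}(t) = ⟨t⟩ × O`
-/

set_option autoImplicit false

namespace Cfsg.Lib.SJ2

open Subgroup Cfsg.Lib.Gold Cfsg.Lib.Trans Cfsg.Lib.StdSz Cfsg.Lib.StdW
open Cfsg.Lib.StdM (Cl Tr)
open Cfsg.Lib.StdX (OF VG Tr3 Db Fm Mu Rl inj conj_of comm_of exists_sec)
open scoped commutatorElement

variable {G Ω : Type*} [Group G] [Group Ω] [Finite G] [Finite Ω] {Γ Γ0 T : Subgroup Ω} {z y : Ω}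
  {n : ℕ} {A : Subgroup G} {ρ : G → Ω} {g s : G}

namespace FrontB

open Frn StdX.Front

omit [Finite Ω] in
theorem step1 (h : Mdl Γ Γ0 A ρ) (key : Key A) {e : G} (he : e ∈ A) (h2 : e * e = 1)
    (h1 : e ∈ Cs (cj g A)) : e = 1 := by_contra fun h0 => by
  by_cases hg : g ∈ Ns A
  · exact h0 (h.eq_one he (pw h2) (cj_eq_of_mem_normalizer hg ▸ h1))
  · exact (key g e 1 hg he h2 h0 (one_mem _) (one_mul 1) (by rwa [mul_one])).1 rfl

omit [Finite Ω] in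
theorem step2 (h : Mdl Γ Γ0 A ρ) (hA : IsStandardSubgroup A) (key : Key A)
    (hg : g ∉ Ns A) (hs : s ∈ Cs A) (hs2 : s * s = 1) (hs1 : s ≠ 1)
    (hN : g * s * g⁻¹ ∈ Ns A) (h0 : ρ (g * s * g⁻¹) ∈ Γ0) : ∃ O t, St A O t := by
  obtain ⟨a, ha, hk⟩ := (h.inner hN).1 h0
  generalize e : a⁻¹ * (g * s * g⁻¹) = k at hk
  replace e : g * s * g⁻¹ = a * k := by rw [← e, mul_inv_cancel_left]
  have hc := (StdJ4.mem_Cs.1 hk a ha).symm
  have h1 : g * s * g⁻¹ * (g * s * g⁻¹) = 1 := by rw [conj_sq, hs2]; group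
  have h2 : a * a * (k * k) = 1 := by rw [← hc.symm.mul_mul_mul_comm, ← e, h1]
  have h3 := h.odd_of_mem (mul_mem ha ha) ((mul_mem_cancel_right (mul_mem hk hk)).1 (h2 ▸ one_mem _))
  generalize hm : orderOf (a * a) = m at h3
  have a2 : a ^ m * a ^ m = 1 := by rw [← (Commute.refl a).mul_pow, ← hm, pow_orderOf_eq_one]
  have hk2 : k ^ m * k ^ m = 1 := by
    rw [← (Commute.refl k).mul_pow, eq_inv_of_mul_eq_one_right h2, inv_pow, ← hm,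
      pow_orderOf_eq_one, inv_one]
  replace e : g * s * g⁻¹ = a ^ m * k ^ m := by rw [← hc.mul_pow, ← e, pow_odd h1 h3]
  replace ha := pow_mem ha m
  replace hk := pow_mem hk m
  replace hc := hc.pow_pow m m
  generalize a ^ m = a at a2 e ha hc
  generalize k ^ m = k at hk2 e hk hc
  have a1 : a ≠ 1 := fun e' => hg (StdJ4.tight' hA hs hs2 hs1 (by rwa [e, e', one_mul]))
  obtain ⟨hk1, h6⟩ := key g a k hg ha a2 a1 hk hk2 (by rwa [← e, ← StdJ4.cj_Cs, conj_mem_cj])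
  obtain ⟨O, h3, h4, h5⟩ := exists_odd_compl (C := Cs A ⊓ C1 k) (t := k)
    (fun c hc => StdJ4.mem_C1.1 hc.2) fun c hc => h6 c hc.1 (StdJ4.mem_C1.1 hc.2)
  obtain ⟨c, -, h7⟩ := StdJ4.conj_of_small hk hk2 h6 hs hs2 hs1
  refine ⟨O, k, hk2, hk1, hk, cN hA hk hk2 hk1, h3, h4, h5, fun x hx e => ?_, a, ha, a1,
    isConj_iff.2 ⟨g * c⁻¹, by rw [← hc.eq, ← e, ← h7]; group⟩⟩
  obtain ⟨w, rfl⟩ := isConj_iff.1 e
  exact hk1 (conj_eq_one_iff.1 (FrontB.step1 h key (g := w) hx (by rw [conj_sq, hk2]; group)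
    (by rwa [← StdJ4.cj_Cs, conj_mem_cj])))

omit [Finite Ω] in
theorem front_of {σ : Ω} (b : Bas Γ Γ0 T z y n) (o : Out Γ Γ0 σ)
    (h : Mdl Γ Γ0 A ρ) (hA : IsStandardSubgroup A) (key : Key A)
    (hO : oddCore G = ⊥) {X : Subgroup G} [X.Normal] [IsSimpleGroup X] (hAX : A ≤ X)
    (hX : Cs X = ⊥) : ∃ O t, St A O t := by
  obtain ⟨ζ, z1, z3⟩ := h.surj z b.z0
  obtain ⟨g, hg, r, hr, hr2, hr1, hN⟩ := StdJ4.exists_out hA hO
    (fun e => b.z1 (by rw [← z3, mem_bot.1 (e.le z1), h.one])) hAX hX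
  by_contra hc
  have h1 : ∀ w, w * r * w⁻¹ ∈ Ns A → ρ (w * r * w⁻¹) ∈ Γ0 → w ∈ Ns A := fun w h1 h2 =>
    by_contra fun h3 => hc (FrontB.step2 h hA key h3 hr hr2 hr1 h1 h2)
  generalize hd : g * r * g⁻¹ = d at hN
  have hd2 : d * d = 1 := by rw [← hd, conj_sq, hr2]; group
  have hdK : d ∈ Cs (cj g A) := by rwa [← hd, ← StdJ4.cj_Cs, conj_mem_cj]
  have hN' := cN' hA hdK hd2 (hd ▸ mt conj_eq_one_iff.1 hr1)
  have m := h.cjg g
  obtain ⟨u', hu', v', hv', u2', v2', u1, v1, uv, c1, c2, c3, c4⟩ := (o.of_all (h.memΓ _ hN)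
    (fun e => hg (h1 g (hd ▸ hN) (hd ▸ e))) (by rw [← h.mul _ hN _ hN, hd2, h.one])).four
  obtain ⟨u, hu, u2, rfl⟩ := h.lift_inv hu' u2'
  obtain ⟨v, hv, v2, rfl⟩ := h.lift_inv hv' v2'
  have d1 := StdJ4.mem_C1.2 (h.comm_of hN hu (pw u2) c2.symm).symm
  have d2 := StdJ4.mem_C1.2 (h.comm_of hN hv (pw v2) c3.symm).symm
  have d3 := h.comm_of (le_normalizer hu) hv (pw v2) c1
  have d4 := h.mul _ (le_normalizer hu) _ (le_normalizer hv)
  have key' : ∀ e ∈ A, e * e = 1 → ρ e ≠ 1 → e ∈ C1 d → (ρ e = ρ u ∨ ρ e = ρ v ∨ ρ e = ρ u * ρ v) →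
      ρ (g⁻¹ * e * g) ∉ Γ0 := fun e he e2 e1 ed h2 h3 => by
    obtain ⟨γ, hγ, h4⟩ := c4 _ h2
    obtain ⟨x, hx, rfl⟩ := h.surj γ hγ
    have hx' : x ∈ Ns A := le_normalizer hx
    have he' : e ∈ Ns A := le_normalizer he
    have h5 : d * e * (d * e) = 1 := by
      rw [(StdJ4.mem_C1.1 ed).mul_mul_mul_comm, hd2, e2, one_mul]
    have h6 : d * e * (x * d * x⁻¹) ∈ A := by
      have := mul_mem (mem_normalizer_conj hN (mul_mem he hx)) (inv_mem hx)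
      rwa [inv_eq_of_mul_eq_one_right hd2, ← mul_assoc d, mul_assoc _ d, mul_assoc _ x, ← mul_assoc x] at this
    have h7 := h.odd_of_mem h6 ((h.ker _ (le_normalizer h6)).1 (by
      rw [h.mul _ (mul_mem hN he') _ (mul_mem (mul_mem hx' hN) (inv_mem hx')), h.conj hx' hN, h4,
        ← h.mul _ hN _ he', ← h.mul _ (mul_mem hN he') _ (mul_mem hN he'), h5, h.one]))
    have h8 : d * e ≠ 1 := fun e' => hg (h1 g (hd ▸ hN) (by
      rw [hd, eq_inv_of_mul_eq_one_left e']; exact h.mem _ (inv_mem he)))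
    obtain ⟨w, hw⟩ := isConj_iff.1 (Local.isConj_of_odd_orderOf_mul
      (orderOf_eq_prime (by rw [sq, h5]) h8) (orderOf_eq_prime (by rw [sq, conj_sq, hd2]; group)
        (mt conj_eq_one_iff.1 (hd ▸ mt conj_eq_one_iff.1 hr1))) h7).symm
    have h9 : g⁻¹ * w * x * g * r * (g⁻¹ * w * x * g)⁻¹ = r * (g⁻¹ * e * g) := by
      rw [← mul_left_inj g⁻¹, ← mul_right_inj g]
      calc _ = w * (x * (g * r * g⁻¹) * x⁻¹) * w⁻¹ := by group
        _ = _ := by rw [hd, hw, ← hd]; group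
    have h10 : g⁻¹ * e * g ∈ Ns A := mem_cj.1 (by rw [StdJ4.cj_Ns]; exact hN' ed)
    have h11 := h1 _ (h9 ▸ mul_mem (StdJ4.Cs_le_Ns A hr) h10) (by
      rwa [h9, h.mul _ (StdJ4.Cs_le_Ns A hr) _ h10, (h.ker _ (StdJ4.Cs_le_Ns A hr)).2 hr, one_mul])
    have h12 := mem_normalizer_conj (normalizer_le_normalizer_centralizer A h11) hr
    rw [h9, mul_mem_cancel_left hr, ← mem_cj, StdJ4.cj_Cs] at h12
    exact e1 (by rw [FrontB.step1 h key he e2 h12, h.one])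
  refine key' _ (mul_mem hu hv) (by rw [d3.symm.mul_mul_mul_comm, u2, v2, one_mul]) (fun e => uv ?_)
    (mul_mem d1 d2) (Or.inr (Or.inr d4)) ?_
  · rw [eq_inv_of_mul_eq_one_left (d4.symm.trans e), inv_eq_of_mul_eq_one_right
      (by rw [← h.mul _ (le_normalizer hv) _ (le_normalizer hv), v2, h.one])]
  · exact (m.mul _ (hN' d1) _ (hN' d2) :) ▸ b.idx _ (m.memΓ _ (hN' d1)) _ (m.memΓ _ (hN' d2))
      (key' u hu u2 u1 d1 (Or.inl rfl)) (key' v hv v2 v1 d2 (Or.inr (Or.inl rfl)))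

end FrontB

theorem front {σ : Ω} (b : Bas Γ Γ0 T z y n) (o : Out Γ Γ0 σ)
    (h : Mdl Γ Γ0 A ρ) (hA : IsStandardSubgroup A)
    (sy : ∀ g a k : G, g ∉ Ns A → a ∈ A → a * a = 1 → Cl Γ0 y (ρ a) → k ∈ Cs A → k * k = 1 →
      a * k ∈ Cs (cj g A) → k ≠ 1 ∧ Frn.Small A k) (hO : oddCore G = ⊥)
    {X : Subgroup G} [X.Normal] [IsSimpleGroup X] (hAX : A ≤ X) (hX : Cs X = ⊥) : ∃ O t, St A O t := by
  refine FrontB.front_of b o h hA (fun g a k hg ha a2 a1 hk k2 hd => ?_) hO hAX hX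
  have hN : a ∈ Ns A := le_normalizer ha
  rcases b.cls _ (h.mem a ha) (by rw [← h.mul _ hN _ hN, a2, h.one]) with e | e | e
  · exact absurd (h.eq_one ha (Frn.pw a2) ((h.ker a hN).1 e)) a1
  · exact small_z b h hA hg ha a2 e hk k2 hd
  · exact sy g a k hg ha a2 e hk k2 hd

end Cfsg.Lib.SJ2
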