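import Cfsg.Agent.SJ2.MNb
import Cfsg.Agent.SJ2.Kit

/-! The model of `J₂:2`: computations in the centraliser of `z`. -/

set_option autoImplicit false
set_option maxRecDepth 100000
set_option Elab.async false
set_option linter.unusedSimpArgs false

namespace Cfsg.Lib.SJ2.M

open Subgroup Cfsg.Lib.Spor Cfsg.Lib.Spor.Bulk Cfsg.Lib.Spor.PK Cfsg.Lib.Spor.WF
open Cfsg.Lib.Gold Cfsg.Lib.Trans Cfsg.Lib.StdSz Cfsg.Lib.StdW
open Cfsg.Lib.StdM (Cl)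
open scoped commutatorElement

namespace JoC

/-- chains -/
def swZ : List (List (List ℕ) × List Cert) :=
  [([[18], [19], [5]],
    [⟨0, [5568, 2753, 3010, 3072, 2177, 3266, 4864, 4160, 4673, 2880, 1729, 3586, 5056, 578, 1920, 321, 1088, 4097,
    4994, 512, 3521, 3968, 4546, 1537, 1986, 2306, 4352, 385, 3392, 129, 1858, 641, 2944, 3841, 66, 1152, 898,
    4416, 2114, 5698, 1409, 5376, 4610, 1024, 4737, 5442, 5185, 5890, 2561, 2048, 4481, 1665, 706, 3328, 2688,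
    258, 1600, 769, 4802, 192, 4032, 2241, 3905, 448, 2624, 961, 1282, 3201, 1344, 3778, 1472, 2369, 5632,
    4289, 4929, 2817, 3650, 3457, 3136], [[2, 1, 2, 0, 1, 2], [0, 1, 0, 1, 0, 0, 2]]⟩,
     ⟨2, [3008, 4993, 5696, 3201, 3456, 1344, 1025, 3584, 3904, 5889, 1152, 4161, 192, 897, 3393, 2305, 4289, 768,
    960, 5184, 4032, 3968, 704], [[0, 1, 0, 0, 0]]⟩,
     ⟨3, [896], []⟩])]

theorem swZ_ok : (jx [] swZ).subsOK = true := by decide +kernel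

/-- chains -/
def sw0 : List (List (List ℕ) × List Cert) :=
  [([[18], [19]],
    [⟨0, [5568, 2753, 3072, 2177, 4864, 2880, 1729, 5056, 1088, 4097, 1537, 3392, 129, 4416, 640, 2112, 3328, 2688,
    2624, 961, 2304, 577, 4480, 3201, 5441, 3008, 897, 449, 3136, 2048, 320, 3904, 1984, 4160, 4673, 2816,
    3649, 5632, 193, 1152, 3265, 2240, 3520, 2561, 512, 3968, 1601, 1408, 3777, 384, 1920, 4608, 65, 5376,
    1024, 4737, 768, 5888, 4288, 3585, 2944, 3841, 1664, 5697, 4032, 4801, 4992, 1281, 1472, 1857, 2369, 705,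
    4352, 1344, 3457, 256, 4544, 4928, 5185], [[0, 1, 0, 0, 1, 0, 0, 0, 1], [1, 0, 1, 0, 0, 0, 1, 0, 0, 1, 0,
    0, 1, 0, 0]]⟩,
     ⟨2, [3456, 3393, 4160, 3905, 896, 1153, 3009, 768, 961, 192, 4993, 5185, 3584, 4289, 4032, 3969, 705, 1025,
    2304, 3201, 5697, 5888, 1345], []⟩])]

theorem sw0_ok : (jx [] sw0).subsOK = true := by decide +kernel

/-- a chain -/
def aI : List Cert :=
    [⟨0, [64, 961, 131, 5569, 259, 2112, 322, 384, 833, 4802, 4032, 3586, 4547, 704, 3202, 2049, 1026, 3395, 896,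
    2369, 1793, 1091, 6274, 1859, 5184, 1601, 4739, 1409, 4098, 2819, 5056, 4673, 5123, 5376, 2561, 1922,
    1667, 4416, 4611, 2434, 1984, 2945, 2307, 4352, 3265, 2178, 3776, 1539, 3075, 6146, 5505, 4482, 450, 3651,
    2880, 2242, 643, 3328, 3713, 1218, 2691, 5696, 1345, 3905, 6082, 5890, 6019, 3840, 6209, 1280, 3008, 4929,
    770, 4995, 4864, 1729, 3458, 4160, 194, 4227, 5442, 1154, 3523, 513, 5314, 577, 3971, 3136, 2752, 5249,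
    2499, 5634, 2624, 4289, 5827, 6338, 5953, 5763, 1472], [[1, 0, 2, 1, 2, 1, 0, 2, 0, 3, 0], [1, 0, 2, 1, 0,
    3, 2, 3, 1, 3, 2, 1, 0]]⟩,
     ⟨2, [1280, 897, 192, 5185, 3008, 1793, 1536, 2817, 2753, 2880, 3457, 3968, 1601, 4480, 2305, 6144, 1217, 1856,
    961, 3072, 769, 3392, 1665, 4033, 3200, 2497, 3776, 3137, 3328, 1409, 4992, 2561, 2241, 2433, 5952, 5697,
    4224, 3585, 2048, 4161, 4288, 1153, 4736, 3905, 5889, 6208, 5248, 65, 4608, 2369, 705, 5313, 3840, 4673,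
    6080, 4864, 6337, 1345, 5121, 1089, 1024, 5504], [[0, 0, 1, 0, 1, 0, 0, 1, 0, 1, 1, 1, 1, 1], [0, 0, 1, 1,
    1, 1, 0, 1, 0, 0, 0]]⟩,
     ⟨3, [960, 3905, 3393, 4160, 4737, 3776, 6209, 65, 1280, 1601, 1089, 2752, 5313, 4993, 5185, 4225, 3009, 3328,
    1857, 769, 1408, 6145, 897], [[0, 1, 1, 0, 1, 1, 1, 0, 1, 1, 0]]⟩,
     ⟨1, [6208, 3776, 1280], []⟩]

theorem lowI : lowC (jx [] []) [[27], [28], [29], [30]] aI 604800 = true := by decide +kernel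

theorem ck_w1 : (jx [] []).decB [0, 1, 2, 3]
    (.and (.eq [1, 1] []) (.and (.eq [6, 6] []) (.and (.eq [6, 1] [1, 6]) (.and (.not (.eq [6] [1])) (.and (.eq
    [1, 9] [9, 6]) (.and (.eq [6, 9] [9, 6, 1]) (.and (.eq [1, 7] [7, 1]) (.and (.eq [6, 7] [7, 6]) (.and (.eq
    [1, 8] [8, 1]) (.and (.eq [6, 8] [8, 6]) (.and (.eq [1, 11] [11, 1]) (.and (.eq [6, 11] [11, 6]) (.and
    (.eq [1, 12] [12, 1]) (.and (.eq [6, 12] [12, 6]) (.and (.eq [1, 13] [13, 1]) (.and (.eq [1, 14] [14, 1])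
    (.and (.eq [13, 14] [14, 1, 13]) (.and (.eq [13, 15] [15, 13]) (.and (.eq [14, 15] [15, 6]) (.and (.eq [1,
    15] [15, 1]) (.and (.eq [13, 16] [16, 14]) (.and (.eq [14, 16] [16, 6]) (.and (.eq [1, 16] [16, 1]) (.and
    (.eq [6, 18] [18, 18, 18, 18, 18, 6, 18]) (.and (.eq [1, 18, 18, 18, 18, 6, 18] [18, 18, 18, 18, 6, 18,
    1]) (.and (.eq [13, 3, 6] [3, 6, 13]) (.and (.eq [14, 3, 6] [3, 6, 14]) (.and (.eq [13, 3, 8, 12] [3, 8,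
    12, 13]) (.eq [14, 3, 8, 12] [3, 8, 12, 14]))))))))))))))))))))))))))))) = true := by
  decide +kernel

theorem w1 : g 1 * g 1 = 1 ∧ g 6 * g 6 = 1 ∧ g 1 * g 6 = g 6 * g 1 ∧ ¬ g 6 = g 1 ∧ g 9 * g 1 = g 6 * g 9 ∧ g
    9 * g 6 = g 1 * g 6 * g 9 ∧ g 7 * g 1 = g 1 * g 7 ∧ g 7 * g 6 = g 6 * g 7 ∧ g 8 * g 1 = g 1
    * g 8 ∧ g 8 * g 6 = g 6 * g 8 ∧ g 11 * g 1 = g 1 * g 11 ∧ g 11 * g 6 = g 6 * g 11 ∧ g 12 * g
    1 = g 1 * g 12 ∧ g 12 * g 6 = g 6 * g 12 ∧ g 13 * g 1 = g 1 * g 13 ∧ g 14 * g 1 = g 1 * g 14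
    ∧ g 14 * g 13 = g 13 * g 1 * g 14 ∧ g 15 * g 13 = g 13 * g 15 ∧ g 15 * g 14 = g 6 * g 15 ∧ g
    15 * g 1 = g 1 * g 15 ∧ g 16 * g 13 = g 14 * g 16 ∧ g 16 * g 14 = g 6 * g 16 ∧ g 16 * g 1 =
    g 1 * g 16 ∧ g 18 * g 6 = g 18 * g 6 * g 18 * g 18 * g 18 * g 18 * g 18 ∧ g 18 * g 6 * g 18
    * g 18 * g 18 * g 18 * g 1 = g 1 * g 18 * g 6 * g 18 * g 18 * g 18 * g 18 ∧ g 6 * g 3 * g 13
    = g 13 * g 6 * g 3 ∧ g 6 * g 3 * g 14 = g 14 * g 6 * g 3 ∧ g 12 * g 8 * g 3 * g 13 = g 13 *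
    g 12 * g 8 * g 3 ∧ g 12 * g 8 * g 3 * g 14 = g 14 * g 12 * g 8 * g 3 := by
  have := holdsB rfl ck_w1
  simp only [Fm.sem, upd_apply, wv_cons, wv_nil, one_mul, Nat.reduceEqDiff, ↓reduceIte] at this
  exact this

theorem ck_w2 : (jx [] []).decB [0, 1, 2, 3]
    (.and (.eq [10, 10, 9, 10, 10, 9, 10, 10, 9] []) (.and (.eq [1, 10, 10, 9] [10, 10, 9, 6]) (.and (.eq [6, 10,
    10, 9] [10, 10, 9, 6, 1]) (.and (.eq [6, 14, 13] [14, 13, 6]) (.and (.eq [13, 10, 10, 9, 10, 10, 9, 14,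
    13, 10, 10, 9] [10, 10, 9, 10, 10, 9, 14, 13, 10, 10, 9, 14]) (.and (.eq [14, 10, 10, 9, 10, 10, 9, 14,
    13, 10, 10, 9] [10, 10, 9, 10, 10, 9, 14, 13, 10, 10, 9, 1, 13]) (.and (.eq [10, 10, 9, 14, 13, 10, 10, 9,
    10, 10, 9, 10, 10, 9, 10, 10, 9, 14, 13, 10, 10, 9, 14, 13] []) (.and (.eq [14, 13, 7] [7, 14, 13, 6, 1])
    (.and (.eq [14, 13, 10, 10, 9, 7, 10, 10, 9, 10, 10, 9] [10, 10, 9, 7, 10, 10, 9, 10, 10, 9, 14, 13, 1])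
    (.eq [14, 13, 10, 10, 9, 10, 10, 9, 7, 10, 10, 9] [10, 10, 9, 10, 10, 9, 7, 10, 10, 9, 14, 13,
    6])))))))))) = true := by
  decide +kernel

theorem w2 : g 9 * g 10 * g 10 * g 9 * g 10 * g 10 * g 9 * g 10 * g 10 = 1 ∧ g 9 * g 10 * g 10 * g 1 = g 6 *
    g 9 * g 10 * g 10 ∧ g 9 * g 10 * g 10 * g 6 = g 1 * g 6 * g 9 * g 10 * g 10 ∧ g 13 * g 14 *
    g 6 = g 6 * g 13 * g 14 ∧ g 9 * g 10 * g 10 * g 13 * g 14 * g 9 * g 10 * g 10 * g 9 * g 10 *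
    g 10 * g 13 = g 14 * g 9 * g 10 * g 10 * g 13 * g 14 * g 9 * g 10 * g 10 * g 9 * g 10 * g 10
    ∧ g 9 * g 10 * g 10 * g 13 * g 14 * g 9 * g 10 * g 10 * g 9 * g 10 * g 10 * g 14 = g 13 * g
    1 * g 9 * g 10 * g 10 * g 13 * g 14 * g 9 * g 10 * g 10 * g 9 * g 10 * g 10 ∧ g 13 * g 14 *
    g 9 * g 10 * g 10 * g 13 * g 14 * g 9 * g 10 * g 10 * g 9 * g 10 * g 10 * g 9 * g 10 * g 10
    * g 9 * g 10 * g 10 * g 13 * g 14 * g 9 * g 10 * g 10 = 1 ∧ g 7 * g 13 * g 14 = g 1 * g 6 *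
    g 13 * g 14 * g 7 ∧ g 9 * g 10 * g 10 * g 9 * g 10 * g 10 * g 7 * g 9 * g 10 * g 10 * g 13 *
    g 14 = g 1 * g 13 * g 14 * g 9 * g 10 * g 10 * g 9 * g 10 * g 10 * g 7 * g 9 * g 10 * g 10 ∧
    g 9 * g 10 * g 10 * g 7 * g 9 * g 10 * g 10 * g 9 * g 10 * g 10 * g 13 * g 14 = g 6 * g 13 *
    g 14 * g 9 * g 10 * g 10 * g 7 * g 9 * g 10 * g 10 * g 9 * g 10 * g 10 := by
  have := holdsB rfl ck_w2
  simp only [Fm.sem, upd_apply, wv_cons, wv_nil, one_mul, Nat.reduceEqDiff, ↓reduceIte] at this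
  exact this

theorem ck_tr : (jx [] swZ).decB [0, 1, 2, 3]
    (.all 0 60 (.imp (.eq [6, 60] [60, 6]) (.imp (.eq [7, 60] [60, 7]) (.imp (.eq [8, 60] [60, 8]) (.imp (.eq [11,
    60] [60, 11]) (.imp (.eq [12, 60] [60, 12]) (.and (.or (.eq [60] []) (.or (.eq [60] [1]) (.or (.eq [60]
    [6]) (.eq [60] [6, 1])))) (.imp (.eq [9, 60] [60, 9]) (.eq [60] []))))))))) = true := by
  decide +kernel

theorem tr : ∀ x ∈ sub g [[18], [19], [5]], x * g 6 = g 6 * x → x * g 7 = g 7 * x → x * g 8 = g 8 * x → x * g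
    11 = g 11 * x → x * g 12 = g 12 * x → ((x = 1 ∨ x = g 1 ∨ x = g 6 ∨ x = g 1 * g 6) ∧ (x * g
    9 = g 9 * x → x = 1)) := by
  have := holdsB swZ_ok ck_tr
  simp only [Fm.sem, upd_apply, wv_cons, wv_nil, one_mul, Nat.reduceEqDiff, ↓reduceIte] at this
  exact this

theorem ck_cQ : (jx [] swZ).decB [0, 1, 2, 3]
    (.all 0 60 (.imp (.eq [6, 60] [60, 6]) (.imp (.eq [13, 60] [60, 13]) (.imp (.eq [14, 60] [60, 14]) (.imp (.eq
    [18, 18, 18, 18, 6, 18, 60] [60, 18, 18, 18, 18, 6, 18]) (.or (.eq [60] []) (.eq [60] [1]))))))) = true := by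
  decide +kernel

theorem cQ : ∀ x ∈ sub g [[18], [19], [5]], x * g 6 = g 6 * x → x * g 13 = g 13 * x → x * g 14 = g 14 * x → x
    * g 18 * g 6 * g 18 * g 18 * g 18 * g 18 = g 18 * g 6 * g 18 * g 18 * g 18 * g 18 * x → (x =
    1 ∨ x = g 1) := by
  have := holdsB swZ_ok ck_cQ
  simp only [Fm.sem, upd_apply, wv_cons, wv_nil, one_mul, Nat.reduceEqDiff, ↓reduceIte] at this
  exact this

theorem ck_trf : (jx [] swZ).decB [0, 1, 2, 3]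
    (.all 0 60 (.imp (.eq [13, 60] [60, 13]) (.imp (.eq [14, 60] [60, 14]) (.imp (.eq [3, 6, 60] [60, 3, 6]) (.imp
    (.eq [3, 8, 12, 60] [60, 3, 8, 12]) (.or (.eq [60] []) (.eq [60] [1]))))))) = true := by
  decide +kernel

theorem trf : ∀ x ∈ sub g [[18], [19], [5]], x * g 13 = g 13 * x → x * g 14 = g 14 * x → x * g 6 * g 3 = g 6 *
    g 3 * x → x * g 12 * g 8 * g 3 = g 12 * g 8 * g 3 * x → (x = 1 ∨ x = g 1) := by
  have := holdsB swZ_ok ck_trf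
  simp only [Fm.sem, upd_apply, wv_cons, wv_nil, one_mul, Nat.reduceEqDiff, ↓reduceIte] at this
  exact this

theorem ck_tw : (jx [] swZ).decB [0, 1, 2, 3]
    (.all 0 60 (.imp (.eq [6, 60] [60, 6]) (.imp (.eq [14, 13, 60, 14, 13] [60]) (.imp (.eq [10, 10, 9, 10, 10, 9,
    14, 13, 10, 10, 9, 60, 10, 10, 9, 10, 10, 9, 14, 13, 10, 10, 9] [60]) (.and (.not (.eq [7, 60] [60, 7]))
    (.and (.not (.eq [7, 60] [60, 7, 1])) (.and (.not (.eq [7, 60] [60, 7, 6])) (.not (.eq [7, 60] [60, 7, 6,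
    1]))))))))) = true := by
  decide +kernel

theorem tw : ∀ x ∈ sub g [[18], [19], [5]], x * g 6 = g 6 * x → g 13 * g 14 * x * g 13 * g 14 = x → g 9 * g
    10 * g 10 * g 13 * g 14 * g 9 * g 10 * g 10 * g 9 * g 10 * g 10 * x * g 9 * g 10 * g 10 * g
    13 * g 14 * g 9 * g 10 * g 10 * g 9 * g 10 * g 10 = x → (¬ x * g 7 = g 7 * x ∧ ¬ x * g 7 = g
    1 * g 7 * x ∧ ¬ x * g 7 = g 6 * g 7 * x ∧ ¬ x * g 7 = g 1 * g 6 * g 7 * x) := by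
  have := holdsB swZ_ok ck_tw
  simp only [Fm.sem, upd_apply, wv_cons, wv_nil, one_mul, Nat.reduceEqDiff, ↓reduceIte] at this
  exact this

theorem ck_nbr : (jx [] sw0).decB [0, 1, 2, 3]
    (.all 0 62 (.imp (.eq [62, 62] []) (.or (.eq [62, 6] [6, 62]) (.or (.eq [6, 62] [62, 1, 6]) (.ex 0 65 (.eq [7,
    65] [65, 62])))))) = true := by
  decide +kernel

theorem nbr : ∀ b ∈ sub g [[18], [19]], b * b = 1 → (g 6 * b = b * g 6 ∨ b * g 6 = g 6 * g 1 * b ∨ (∃ h ∈ sub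
    g [[18], [19]], h * g 7 = b * h)) := by
  have := holdsB sw0_ok ck_nbr
  simp only [Fm.sem, upd_apply, wv_cons, wv_nil, one_mul, Nat.reduceEqDiff, ↓reduceIte] at this
  exact this

/-- conjugating words -/
def tb (i j : ℕ) : List ℕ :=
  List.getD [[], [7, 18, 4], [3, 18, 29, 13], [7, 29, 7, 12], [3, 2, 15], [], [2, 13, 22, 2], [8, 23, 15, 8], [2, 12, 7,
    29], [15, 2, 20, 12], [], [3, 4, 20, 26], [2, 13, 2], [3, 23, 15, 8], [8, 4, 20, 26], []] (4 * (i - 27) + (j - 27)) []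

theorem ck_tb : ∀ i ∈ [27, 28, 29, 30], ∀ j ∈ [27, 28, 29, 30], i = j ∨ (∀ l ∈ tb i j, l ≠ 5 ∧ l ≠ 21) ∧
    (jx [] []).decB [0, 1, 2, 3] (.and (.eq (13 :: tb i j) (tb i j ++ [i]))
      (.eq (14 :: tb i j) (tb i j ++ [j]))) = true := by
  decide +kernel

end JoC

end Cfsg.Lib.SJ2.M
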