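import Cfsg.Agent.SJ2.Dat
import Cfsg.Agent.SJ2.Basic

/-! The model of `J₂:2`: the involutions commuting with `z`. -/

set_option autoImplicit false
set_option maxRecDepth 100000
set_option exponentiation.threshold 2000

namespace Cfsg.Lib.SJ2.M

open Subgroup Cfsg.Lib.Spor Cfsg.Lib.Spor.Bulk Cfsg.Lib.Spor.PK Cfsg.Lib.Spor.WF
open Cfsg.Lib.Gold Cfsg.Lib.Trans Cfsg.Lib.StdSz Cfsg.Lib.StdW
open Cfsg.Lib.StdM (Cl)
open scoped commutatorElement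

theorem okN : (jx [] [([[18], [19]], az0)]).subsOK = true := by decide +kernel

theorem inv_cz : ∀ a ∈ G0 ⊓ C1 (g 1), a * a = 1 → a = 1 ∨ a = g 1 ∨
    ∃ h ∈ G0 ⊓ C1 (g 1), h * g 6 = a * h ∨ h * g 7 = a * h := by
  have := holdsB okN (p := (.all 0 62 (.imp (.eq [62, 62] []) (.or (.eq [62] []) (.or (.eq [62] [1]) (.ex 0 61 (.or (.eq [6, 61] [61, 62]) (.eq [7, 61] [61, 62]))))))))
    (by decide +kernel)
  rw [cz0.1]
  simpa [Fm.sem, upd_apply, PM.W] using this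

theorem inv_czq : ∀ a ∈ G0 ⊓ C1 (g 1), a * a = 1 → a * g 6 = g 6 * a → a = 1 ∨ a = g 1 ∨ a = g 6 ∨
    a = g 1 * g 6 ∨ ∃ h ∈ G0 ⊓ C1 (g 1), h * g 7 = a * h := by
  have := holdsB okN (p := (.all 0 62 (.imp (.eq [62, 62] []) (.imp (.eq [6, 62] [62, 6]) (.or (.eq [62] []) (.or (.eq [62] [1]) (.or (.eq [62] [6]) (.or (.eq [62] [6, 1]) (.ex 0 61 (.eq [7, 61] [61, 62]))))))))))
    (by decide +kernel)
  rw [cz0.1]
  simpa [Fm.sem, upd_apply, PM.W] using this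

theorem z2 : g 1 * g 1 = 1 := by simpa using eqw (a := [1, 1]) (b := []) (by decide +kernel)

theorem z1 : g 1 ≠ 1 := by simpa using new (a := [1]) (b := []) (by decide +kernel)

theorem cl_of {h a b : Om} (hh : h ∈ G0) (e : h * a = b * h) : Cl G0 a b :=
  ⟨h, hh, mul_inv_eq_iff_eq_mul.2 e⟩

theorem cl_trans {a b c : Om} (h : Cl G0 a b) (k : Cl G0 b c) : Cl G0 a c := by
  obtain ⟨u, hu, rfl⟩ := h
  obtain ⟨w, hw, rfl⟩ := k
  exact ⟨w * u, mul_mem hw hu, by group⟩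

theorem cl_symm {a b : Om} (h : Cl G0 a b) : Cl G0 b a := by
  obtain ⟨u, hu, rfl⟩ := h
  exact ⟨u⁻¹, inv_mem hu, by group⟩

theorem clq : Cl G0 (g 1) (g 6) := cl_of (mem0 (l := 9) (by decide) (by decide))
  (by simpa using eqw (a := [1, 9]) (b := [9, 6]) (by decide +kernel))

theorem not_cl : ¬ Cl G0 (g 1) (g 7) := by
  rintro ⟨c, hc, e⟩
  have h := card_cj c (G0 ⊓ C1 (g 1))
  rw [cj_inf, cj_eq_of_mem hc, cj_C1, e, cz0.2, cy0.2] at h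
  omega

theorem cl_sq {a : Om} (h : Cl G0 (g 1) a) : a ∈ G0 ∧ a * a = 1 ∧ a ≠ 1 := by
  obtain ⟨u, hu, rfl⟩ := h
  exact ⟨mul_mem (mul_mem hu (mem0 (by decide) (by decide))) (inv_mem hu),
    by rw [conj_mul, z2]; group, fun e => z1 (conj_eq_one_iff.1 e)⟩

/-- the neighbours of `z` are conjugate under the centraliser of `z` -/
theorem flag : ∀ a, Cl G0 (g 1) a → Commute a (g 1) → a ≠ g 1 →
    ∃ h ∈ G0, h * g 1 * h⁻¹ = g 1 ∧ h * g 6 * h⁻¹ = a := fun a h1 h2 h3 => by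
  obtain ⟨a0, a2, a1⟩ := cl_sq h1
  rcases inv_cz a ⟨a0, StdSz.mem_C1.2 h2⟩ a2 with e | e | ⟨h, hh, e | e⟩
  exacts [absurd e a1, absurd e h3,
    ⟨h, hh.1, conj_eq_of_commute (StdSz.mem_C1.1 hh.2), mul_inv_eq_iff_eq_mul.2 e⟩,
    absurd (cl_trans h1 (cl_symm (cl_of hh.1 e))) not_cl]

theorem cl3 : ∀ b c, Cl G0 (g 1) b → Cl G0 (g 1) c → Commute (g 1) b → Commute (g 1) c →
    Commute b c → b ≠ g 1 → c = g 1 ∨ c = b ∨ c = g 1 * b := fun b c h1 h2 h3 h4 h5 h6 => by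
  obtain ⟨h, hh, e1, rfl⟩ := flag b h1 h3.symm h6
  obtain ⟨c, rfl⟩ : ∃ c', c = h * c' * h⁻¹ := ⟨h⁻¹ * c * h, by group⟩
  have k : Cl G0 (g 1) c := cl_trans h2 (cl_symm ⟨h, hh, rfl⟩)
  obtain ⟨a0, a2, a1⟩ := cl_sq k
  have cm : ∀ {u}, Commute (h * u * h⁻¹) (h * c * h⁻¹) → Commute c u := fun e => by
    simpa [mul_assoc] using (commute_conj e h⁻¹).symm
  rcases inv_czq c ⟨a0, StdSz.mem_C1.2 (cm (e1.symm ▸ h4))⟩ a2 (cm h5) with
    e | rfl | rfl | rfl | ⟨u, hu, e⟩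
  exacts [absurd e a1, .inl e1, .inr (.inl rfl), .inr (.inr (by rw [← conj_mul, e1])),
    absurd (cl_trans k (cl_symm (cl_of hu.1 e))) not_cl]

end Cfsg.Lib.SJ2.M
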