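import Cfsg.Agent.SJ2.PrB

/-!
# Standard subgroups of type `J₂`: no simple group has the product Sylow subgroup
-/

set_option autoImplicit false
set_option linter.unusedSectionVars false
set_option linter.unusedVariables false

namespace Cfsg.Lib.SJ2

open Subgroup Cfsg.Lib.Gold Cfsg.Lib.Trans Cfsg.Lib.StdSz Cfsg.Lib.StdW
open Cfsg.Lib.StdM (Cl)
open scoped commutatorElement

variable {G : Type*} [Group G] [Finite G] {B T B' T' M : Subgroup G} {z z' y y' t : G} {n N : ℕ}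

namespace PrC

/-- conjugates of involutions of `T` lying in `S` lie in `T` -/
def Iv (M S T : Subgroup G) : Prop :=
  ∀ x ∈ T, x * x = 1 → ∀ g ∈ M, g * x * g⁻¹ ∈ S → g * x * g⁻¹ ∈ T

omit [Finite G] in
theorem Iv.le {S U : Subgroup G} (i : Iv M S T) (hU : U ≤ T) (gen : U ≤ closure {a | a ∈ U ∧ a * a = 1})
    {g : G} (hg : g ∈ M) (e : cj g U ≤ S) : cj g U ≤ T :=
  cj_le_iff_le_cj_inv.2 (gen.trans ((closure_le _).2 fun a ha =>
    mem_cj_inv.2 (i a (hU ha.1) ha.2 g hg (cj_le_iff.1 e a ha.1))))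

variable (h : PJ B T B' T' z y n N) (h' : PJ B' T' B T z' y' n N) (hS : IsSylowIn 2 (T ⊔ T') M)
  (hB : B ≤ M) (hB' : B' ≤ M) (i : Iv M (T ⊔ T') T) (i' : Iv M (T ⊔ T') T')
include h h' hS hB hB' i'

theorem noz {x a g : G} (hx : x ∈ T) (ha : a ∈ T) (hg : g ∈ M) : g * x * g⁻¹ ≠ a * z' :=
  h.no_z h' hS hB hB' (fun g hg => i' z' h'.zT h'.z2 g hg) hx ha hg

omit h hS hB i' in
theorem cl_y (nf : ∀ k ∈ M, k * y' * k⁻¹ ≠ z') {k : G} (hk : k ∈ M) (e : k * y' * k⁻¹ ∈ T') :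
    ∃ l ∈ B', l * (k * y' * k⁻¹) * l⁻¹ = y' := by
  obtain ⟨l, hl, s, hs, e1⟩ := h'.rep e (by rw [conj_sq, h'.y2]; group)
  rcases hs with rfl | rfl | rfl
  · exact absurd (conj_eq_one_iff.1 (conj_eq_one_iff.1 e1)) h'.y1
  · exact absurd (by rw [← e1]; group) (nf _ (mul_mem (hB' hl) hk))
  · exact ⟨l, hl, e1⟩

theorem not_der (nf : ∀ k ∈ M, k * y' * k⁻¹ ≠ z') :
    y' ∉ ⁅M ⊓ Cs (T' ⊓ C1 y'), M ⊓ Cs (T' ⊓ C1 y')⁆ := fun e => by
  have : Fact (Nat.Prime 2) := ⟨Nat.prime_two⟩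
  have yR : y' ∈ T' ⊓ C1 y' := ⟨h'.yT, StdSz.mem_C1.2 (Commute.refl _)⟩
  have RM : T' ⊓ C1 y' ≤ T ⊔ T' := inf_le_left.trans le_sup_right
  obtain ⟨U, hU, u1⟩ := exists_isSylowIn_ge (H := M ⊓ Cs (T' ⊓ C1 y'))
    (two_zpowers (x := y') (k := 1) (by rw [pow_one, pow_two, h'.y2])) (zpowers_le.2
      ⟨hB' (h'.TB h'.yT), StdSz.mem_Cs.2 fun a ha => (StdSz.mem_C1.1 ha.2).symm⟩)
  have h1 := StdJ4.central_mem hU (u1 (mem_zpowers y'))
    (StdSz.mem_Cs.2 fun c hc => (StdSz.mem_Cs.1 hc.2 y' yR).symm) e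
  have UC : U ≤ Cs (T' ⊓ C1 y') := hU.le.trans inf_le_right
  obtain ⟨k, hk, k1⟩ := hS.exists_cj_le ((hS.isPGroup.to_le RM).to_sup_of_normal_left' hU.isPGroup
    (UC.trans (StdJ4.Cs_le_Ns _))) (sup_le (RM.trans hS.le) (hU.le.trans inf_le_left))
  have k2 : cj k (T' ⊓ C1 y') ≤ T' :=
    i'.le inf_le_left h'.genR hk ((cj_mono k le_sup_left).trans k1)
  have k3 := k2 (conj_mem_cj.2 yR)
  obtain ⟨l, hl, l1⟩ := cl_y h' hB' nf hk k3
  have k4 : cj k (T' ⊓ C1 y') = T' ⊓ C1 (k * y' * k⁻¹) :=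
    Subgroup.eq_of_le_of_card_ge (le_inf k2 (cj_le_iff.2 fun a ha =>
      StdSz.mem_C1.2 (commute_conj (StdSz.mem_C1.1 ha.2) k))) (by
        rw [card_cj, h'.cardR, ← card_cj l]
        refine h'.sylR _ (le_inf (cj_le_of_mem_of_le hl (inf_le_left.trans h'.TB))
          (cj_le_iff.2 fun a ha => StdSz.mem_C1.2 ?_)) (isPGroup_cj (h'.twoT.to_le inf_le_left) l)
        exact l1 ▸ commute_conj (StdSz.mem_C1.1 ha.2) l)
  have key : ∀ u ∈ U, ∃ a ∈ T, ∃ b ∈ T', b ∈ Cs (cj k (T' ⊓ C1 y')) ∧ a * b = k * u * k⁻¹ :=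
    fun u hu => by
      obtain ⟨a, ha, b, hb, e1⟩ := h.mem_S.1 (k1 (conj_mem_cj.2 (mem_sup_right hu)))
      refine ⟨a, ha, b, hb, (mul_mem_cancel_left (StdJ4.Cs_anti k2 (h'.le_Cs ha))).1 ?_, e1⟩
      rw [e1, ← StdJ4.cj_Cs]; exact conj_mem_cj.2 (UC hu)
  have h2 : ⁅U, U⁆ ≤ cj k⁻¹ T := commutator_le.2 fun u hu v hv => by
    obtain ⟨a, ha, b, hb, b1, e1⟩ := key u hu
    obtain ⟨c, hc, d, hd, d1, e2⟩ := key v hv
    rw [mem_cj_inv, ← StdSz.conj_comm, ← e1, ← e2, h.cm ha hb hc hd,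
      commutatorElement_eq_one_iff_commute.2 (StdSz.mem_Cs.1 b1 d (k4.ge
        ⟨hd, StdSz.mem_C1.2 (StdSz.mem_Cs.1 d1 _ (conj_mem_cj.2 yR))⟩)), mul_one]
    exact commutator_le_self T (commutator_mem_commutator ha hc)
  exact h'.y1 (conj_eq_one_iff.1 (h.disj _ (mem_cj_inv.1 (h2 h1)) k3))

include i

theorem noy {x a g : G} (hx : x ∈ T) (ha : a ∈ T) (hg : g ∈ M) : g * x * g⁻¹ ≠ a * y' := fun e => by
  have : Fact (Nat.Prime 2) := ⟨Nat.prime_two⟩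
  have RM : T' ⊓ C1 y' ≤ T ⊔ T' := inf_le_left.trans le_sup_right
  have yR : y' ∈ T' ⊓ C1 y' := ⟨h'.yT, StdSz.mem_C1.2 (Commute.refl _)⟩
  by_cases nf : ∀ k ∈ M, k * y' * k⁻¹ ≠ z'
  swap
  · push Not at nf
    obtain ⟨m, hm, m1⟩ := nf
    obtain ⟨k, hk, k1, k2⟩ := PJ.extr hS (c := z') (u := y') (sup_comm T' T ▸ h'.z_Cs) (inv_mem hm)
      (by rw [← m1]; group) h.twoT (h.TB.trans hB) fun c hc => StdSz.mem_C1.2 (h.comm hc h'.yT)
    refine noz h h' hS hB hB' i' hx (cj_le_iff.1 (i.le le_rfl h.genT hk k2) a ha) (mul_mem hk hg) ?_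
    rw [← k1, conj_mul, ← e]; group
  have uS : a * y' ∈ T ⊔ T' := mul_mem (mem_sup_left ha) (mem_sup_right h'.yT)
  have l1 : zpowers (a * y') ⊔ T' ⊓ C1 y' ≤ T ⊔ T' := sup_le (zpowers_le.2 uS) RM
  obtain ⟨Q, hQ, q1⟩ := exists_isSylowIn_ge (H := M ⊓ C1 (a * y')) (hS.isPGroup.to_le l1)
    (le_inf (l1.trans hS.le) (sup_le (zpowers_le.2 (StdSz.mem_C1.2 (Commute.refl _))) fun c hc =>
      StdSz.mem_C1.2 ((h.comm ha hc.1).symm.mul_right (StdSz.mem_C1.1 hc.2))))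
  obtain ⟨c, hc, c1⟩ := hQ.exists_cj_le (isPGroup_cj h'.twoT g)
    (le_inf (cj_le_of_mem_of_le hg (h'.TB.trans hB')) (cj_le_iff.2 fun b hb =>
      StdSz.mem_C1.2 (e ▸ commute_conj (h.comm hx hb).symm g)))
  obtain ⟨k, hk, k1⟩ := hS.exists_cj_le hQ.isPGroup (hQ.le.trans inf_le_left)
  have hm : k * (c * g) ∈ M := mul_mem hk (mul_mem hc.1 hg)
  have m1 : k * (c * g) ∈ Ns T' := mem_normalizer_of_cj_le (i'.le le_rfl h'.genT hm (by
    rw [cj_mul, cj_mul]; exact (cj_mono k c1).trans k1))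
  have m2 : k * (c * g) * x * (k * (c * g))⁻¹ = k * (a * y') * k⁻¹ := by
    rw [← conj_eq_of_commute (StdSz.mem_C1.1 hc.2), ← e]; group
  have x1 : k * (a * y') * k⁻¹ ∈ T := by
    obtain ⟨a1, ha1, b1, hb1, e1⟩ := h.mem_S.1
      (k1 (conj_mem_cj.2 (q1 (mem_sup_left (mem_zpowers _)))))
    have c2 : a1 * b1 ∈ Cs T' := by
      rw [e1, ← m2]
      exact mem_normalizer_conj (normalizer_le_normalizer_centralizer _ m1) (h'.le_Cs hx)
    rcases h'.cent b1 hb1 ((mul_mem_cancel_left (h'.le_Cs ha1)).1 c2) with rfl | rfl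
    · rw [← e1, mul_one]; exact ha1
    · exact absurd (m2.trans e1.symm) (noz h h' hS hB hB' i' hx ha1 hm)
  have k2 : cj k (T' ⊓ C1 y') ≤ T' :=
    i'.le inf_le_left h'.genR hk ((cj_mono k (le_sup_right.trans q1)).trans k1)
  obtain ⟨l, hl, l2⟩ := cl_y h' hB' nf hk (k2 (conj_mem_cj.2 yR))
  have sR : IsSylowIn 2 (T' ⊓ C1 y') (B' ⊓ C1 y') := by
    obtain ⟨R, hR⟩ := exists_isSylowIn (p := 2) (B' ⊓ C1 y')
    exact hR.of_card_ge (h'.twoT.to_le inf_le_left) (inf_le_inf_right _ h'.TB)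
      ((h'.sylR R hR.le hR.isPGroup).trans h'.cardR.ge)
  obtain ⟨l', hl', l3⟩ := sR.exists_cj_le (isPGroup_cj (isPGroup_cj sR.isPGroup k) l)
    (le_inf (cj_le_of_mem_of_le hl (k2.trans h'.TB)) (cj_le_iff.2 fun _ ⟨b, hb, e⟩ =>
      StdSz.mem_C1.2 (l2 ▸ e ▸ commute_conj (commute_conj (StdSz.mem_C1.1 hb.2) k) l)))
  rw [cj_cj, cj_cj] at l3
  have n1 : l' * l * k ∈ M := mul_mem (hB' (mul_mem hl'.1 hl)) hk
  have n2 := mem_normalizer_of_cj_le l3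
  have n3 : l' * l * k * y' * (l' * l * k)⁻¹ = y' := by
    rw [show l' * l * k * y' * (l' * l * k)⁻¹ = l' * (l * (k * y' * k⁻¹) * l⁻¹) * l'⁻¹ by group, l2,
      conj_eq_of_commute (StdSz.mem_C1.1 hl'.2)]
  have n4 : l' * l * k * a * (l' * l * k)⁻¹ * y' ∈ T := by
    rw [← n3, conj_mul, show l' * l * k * (a * y') * (l' * l * k)⁻¹ =
      l' * l * (k * (a * y') * k⁻¹) * (l' * l)⁻¹ by group,
      conj_eq_of_commute (h'.commB _ (mul_mem hl'.1 hl) _ (h.TB x1))]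
    exact x1
  refine not_der h h' hS hB hB' i' nf ?_
  set L := M ⊓ Cs (T' ⊓ C1 y') with hL
  have hBL : B ≤ L := le_inf hB fun y hy => StdSz.mem_Cs.2 fun b hb => h.commB y hy b (h.T'B' hb.1)
  have hT : T ≤ ⁅L, L⁆ := h.TB.trans (h.perf.trans (commutator_mono hBL hBL))
  have hn : l' * l * k ∈ Ns ⁅L, L⁆ := cj_eq_self_iff.1 (by
    rw [cj_commutator, hL, cj_inf, StdJ4.cj_Cs, cj_eq_of_mem n1, cj_eq_of_mem_normalizer n2])
  exact (mul_mem_cancel_left (mem_normalizer_conj hn (hT ha))).1 (hT n4)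

theorem strong (k : ℕ) : ∀ x ∈ T, x ^ 2 ^ k = 1 → ∀ g ∈ M, g * x * g⁻¹ ∈ T ⊔ T' →
    g * x * g⁻¹ ∈ T := by
  induction k with
  | zero =>
    intro x _ e g _ _
    rw [pow_zero, pow_one] at e
    rw [e]; simpa using one_mem T
  | succ k ih =>
    intro x hx e g hg hs
    have h1 := ih (x * x) (mul_mem hx hx) (by rw [← pow_two, ← pow_mul, ← pow_succ', e]) g hg
      (conj_sq g x ▸ mul_mem hs hs)
    obtain ⟨a, ha, b, hb, e1⟩ := h.mem_S.1 hs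
    rw [← conj_sq, ← e1, h.sq ha hb] at h1
    have b2 := h.right_eq_one (mul_mem ha ha) (mul_mem hb hb) h1
    obtain ⟨l, hl, s, hs', l1⟩ := h'.rep hb b2
    have l2 : l * a * l⁻¹ = a := conj_eq_of_commute (h'.commB l hl a (h.TB ha))
    have l3 : l * g * x * (l * g)⁻¹ = a * s := by
      rw [← l1, show l * g * x * (l * g)⁻¹ = l * (g * x * g⁻¹) * l⁻¹ by group, ← e1]
      conv_rhs => rw [← l2]
      group
    rcases hs' with rfl | rfl | rfl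
    · rw [← e1, conj_eq_one_iff.1 l1, mul_one]; exact ha
    · exact absurd l3 (noz h h' hS hB hB' i' hx ha (mul_mem (hB' hl) hg))
    · exact absurd l3 (noy h h' hS hB hB' i i' hx ha (mul_mem (hB' hl) hg))

end PrC

theorem PJ.false [IsSimpleGroup M] (h : PJ B T B' T' z y n N) (h' : PJ B' T' B T z' y' n N)
    (hS : IsSylowIn 2 (T ⊔ T') M) (hB : B ≤ M) (hB' : B' ≤ M) (ht : t ∈ Ns M) (t2 : t * t = 1)
    (e1 : t * z * t⁻¹ = z') (e2 : t * y * t⁻¹ = y') : False := by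
  have : Fact (Nat.Prime 2) := ⟨Nat.prime_two⟩
  have i : PrC.Iv M (T ⊔ T') T := fun x hx x2 g hg e => h.invol h' hS hB hB' ht t2 e1 e2 hx x2 hg e
  have i' : PrC.Iv M (T ⊔ T') T' := fun x hx x2 g hg e => h'.invol h (sup_comm T T' ▸ hS) hB' hB ht t2
    (PrB.back t2 e1) (PrB.back t2 e2) hx x2 hg (sup_comm T T' ▸ e)
  have hTM : T ≤ M := h.TB.trans hB
  have hev : Even (Nat.card M) := even_iff_two_dvd.2
    (Dvd.dvd.trans (by rw [h.cardT]; exact dvd_pow_self 2 (by have := h.n2; omega)) (card_dvd_of_le hTM))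
  have h5 := Cfsg.Agent.S1173.result (Bender.oddCore_eq_bot_of_simple hev) hS.toSylow
    (T.subgroupOf M) ⟨comap_mono le_sup_left, fun x hx g hg => by
      obtain ⟨k, hk⟩ := h.twoT ⟨x, hx⟩
      exact PrC.strong h h' hS hB hB' i i' k x hx (congrArg Subtype.val hk) g g.2 hg⟩
  rw [map_iInf_derivedSeries] at h5
  have h6 : B'.subgroupOf M ≤ pc (Cs (T.subgroupOf M)) := le_pc
    (fun a ha => StdSz.mem_Cs.2 fun c hc => Subtype.ext (h'.commB a ha c (h.TB hc)).eq) (by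
      rw [← map_le_map_iff_of_injective M.subtype_injective, map_commutator,
        subgroupOf_map_subtype, inf_of_le_left hB']
      exact h'.perf)
  rcases h5.eq_bot_or_eq_top with h7 | h7
  · exact h'.z1 (congrArg Subtype.val (h7.le (x := ⟨z', hB' (h'.TB h'.zT)⟩) (h6 (h'.TB h'.zT))))
  · refine h.zB (StdSz.mem_Cs.2 fun b hb => ?_)
    exact (congrArg Subtype.val (StdSz.mem_Cs.1 (pc_le (h7.ge (mem_top ⟨b, hB hb⟩)))
      ⟨z, hTM h.zT⟩ h.zT).eq).symm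

theorem PrC.Iv_eq_1' : type_of% @PrC.Iv.eq_1 := @PrC.Iv.eq_1

end Cfsg.Lib.SJ2
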