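import Cfsg.Agent.SJ2.TWa
import Cfsg.Agent.SJ2.Tr
import Cfsg.Agent.StdX.Cal2

/-!
# Standard subgroups of type `J₂`: the relation between two involutions of the family
-/

set_option autoImplicit false
set_option linter.unusedSectionVars false
set_option linter.unusedVariables false

namespace Cfsg.Lib.SJ2

open Subgroup Cfsg.Lib.Gold Cfsg.Lib.Trans Cfsg.Lib.StdSz Cfsg.Lib.StdW
open Cfsg.Lib.StdM (Cl)
open Cfsg.Lib.StdX (OF VG Tr3 Db Fm Mu Rl inj conj_of comm_of exists_sec)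
open scoped commutatorElement

variable {G Ω : Type*} [Group G] [Group Ω] [Finite G] [Finite Ω] {Γ Γ0 : Subgroup Ω}
  {z q a₁ a₂ s w : Ω} {A : Subgroup G} {ρ : G → Ω} {t : G} {ι v : Ω → G}

namespace TWb

/-- the relations of one of the three elements -/
structure Rel (M : Subgroup G) (t e R R' R'' Z W : G) : Prop where
  c : e ∈ Cs M
  t : e * t * e⁻¹ = t * R * W
  r : e * R * e⁻¹ = R
  r' : e * R' * e⁻¹ = Z * R'
  r'' : e * R'' * e⁻¹ = Z * R''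

theorem Rel.conj {M : Subgroup G} {t e R R' R'' Z W σ : G} (h : Rel M t e R R' R'' Z W)
    (hM : σ ∈ Ns M) (ht : Commute σ t) : Rel M t (σ * e * σ⁻¹) (σ * R * σ⁻¹) (σ * R' * σ⁻¹)
      (σ * R'' * σ⁻¹) (σ * Z * σ⁻¹) (σ * W * σ⁻¹) := by
  have k : ∀ x, σ * e * σ⁻¹ * (σ * x * σ⁻¹) * (σ * e * σ⁻¹)⁻¹ = σ * (e * x * e⁻¹) * σ⁻¹ :=
    fun x => by group
  refine ⟨mem_normalizer_conj (normalizer_le_normalizer_centralizer _ hM) h.c, ?_, by rw [k, h.r],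
    by rw [k, h.r', conj_mul], by rw [k, h.r'', conj_mul]⟩
  rw [← conj_eq_of_commute ht, k, h.t, conj_mul, conj_mul]

theorem alg {M : Subgroup G} {t e₀ e₁ e₂ R₀ R₁ R₂ Z Q W V : G} (h₀ : Rel M t e₀ R₀ R₁ R₂ Z W)
    (h₁ : Rel M t e₁ R₁ R₂ R₀ Q V) (h₂ : Rel M t e₂ R₂ R₀ R₁ (Z * Q) (W * V)) (hZ : Z ∈ M)
    (hQ : Q ∈ M) (hW : W ∈ M) (hV : V ∈ M) (ab : M ≤ Cs M) (r₁ : R₁ ∈ Cs M) (r₂ : R₂ ∈ Cs M)
    (p : R₀ * R₁ * R₂ = 1) (Z2 : Z * Z = 1) (Q2 : Q * Q = 1) (W2 : W * W = 1) (V2 : V * V = 1) :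
    e₀ * e₁ * e₂ * t * (e₀ * e₁ * e₂)⁻¹ = t * Q ∧ e₀ * e₁ * e₂ * R₀ * (e₀ * e₁ * e₂)⁻¹ = Z * R₀ ∧
      e₀ * e₁ * e₂ * R₁ * (e₀ * e₁ * e₂)⁻¹ = Q * R₁ := by
  have k : ∀ x, e₀ * e₁ * e₂ * x * (e₀ * e₁ * e₂)⁻¹ = e₀ * (e₁ * (e₂ * x * e₂⁻¹) * e₁⁻¹) * e₀⁻¹ :=
    fun x => by group
  have f : ∀ {e m}, e ∈ Cs M → m ∈ M → e * m * e⁻¹ = m := fun he hm =>
    conj_eq_of_commute (StdSz.mem_Cs.1 he _ hm)
  have c : ∀ {e m}, e ∈ Cs M → m ∈ M → ∀ x, m * (e * x) = e * (m * x) := fun he hm =>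
    (StdSz.mem_Cs.1 he _ hm).symm.left_comm
  have sq : ∀ {a : G}, a * a = 1 → ∀ x, a * (a * x) = x := fun e x => by rw [← mul_assoc, e, one_mul]
  have p' : ∀ x, R₀ * (R₁ * (R₂ * x)) = x := fun x => by
    rw [← mul_assoc, ← mul_assoc, p, one_mul]
  refine ⟨?_, ?_, ?_⟩
  · simp only [k, h₂.t, ← conj_mul, h₁.t, h₁.r', h₀.t, h₀.r', h₀.r'', f h₁.c hW, f h₁.c hV,
      f h₀.c hW, f h₀.c hV, f h₀.c hQ]
    simp only [mul_assoc, c r₁ hZ, c r₁ hW, c r₂ hZ, c r₂ hW, c r₂ hV, c r₂ hQ, p']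
    simp only [c (ab hZ) hQ, c (ab hZ) hV, c (ab hQ) hW, c (ab hQ) hV, c (ab hW) hV,
      sq Z2, W2, V2, mul_one]
  · simp only [k, h₂.r', ← conj_mul, h₁.r'', h₀.r, f h₁.c hZ, f h₁.c hQ, f h₀.c hZ, f h₀.c hQ]
    rw [mul_assoc, sq Q2]
  · simp only [k, h₂.r'', ← conj_mul, h₁.r, h₀.r', f h₁.c hZ, f h₁.c hQ, f h₀.c hZ, f h₀.c hQ]
    rw [mul_assoc, c (ab hZ) hQ, sq Z2]

theorem step {M : Subgroup G} {u c d : G} (hc : c⁻¹ * u * c * u⁻¹ ∈ M) (hd : d⁻¹ * u * d * u⁻¹ ∈ M)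
    (h : d ∈ Cs M) : (c * d)⁻¹ * u * (c * d) * u⁻¹ ∈ M := by
  rw [show (c * d)⁻¹ * u * (c * d) * u⁻¹ = d⁻¹ * (c⁻¹ * u * c * u⁻¹) * d⁻¹⁻¹ * (d⁻¹ * u * d * u⁻¹) by
    group, conj_eq_of_commute (StdSz.mem_Cs.1 h _ hc).inv_left]
  exact mul_mem hc hd

end TWb

open TWa TWb

theorem rl12 (F : Fm Γ Γ0 z A ρ t ι v) (o : Jo Γ Γ0 z q a₁ a₂ s w) (mu : Mu Γ0 z v z q) :
    Rl Γ0 z t v a₁ a₂ := by
  have m₁ := muz F o mu o.l₁ o.c₁ (ne₁ F o mu)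
  have m₂ := muz F o mu o.l₂ o.c₂ (ne₂ F o mu)
  have b₁ := F.mem o.l₁
  have b₂ := F.mem o.l₂
  have q0 := F.mem mu.r
  obtain ⟨k, hk, -, -, e, -⟩ := F.defect m₁ m₂ (e₂₁ F o mu) fun k hk => by
    rcases o.trf k hk with rfl | rfl
    exacts [one_mem _, F.z0]
  rcases o.trf k hk with rfl | hkz
  · refine ⟨o.l₁, o.l₂, commute_of_conj_eq ?_⟩
    rw [F.vi o.l₁, e, F.ι_one, one_mul]
  exfalso
  rw [hkz, F.tvt o.l₂] at e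
  have cZW := F.va (clz (Γ0 := Γ0) (z := z))
  have Z2 := F.ι2 (clz (Γ0 := Γ0) (z := z))
  have W2 := F.sq (clz (Γ0 := Γ0) (z := z))
  have sq : v a₁ * v a₂ * v a₁ = v z * ι z * v a₂ := by
    have e1 : ι a₂ * (v z * (v a₁ * v a₂ * v a₁)) = ι a₂ * (ι z * v a₂) := by
      rw [← mul_assoc, ← dih₁ F o mu, (F.ι_comm b₂ F.z0 o.c₂).left_comm, ← e]
      calc _ = v a₁ * ι a₂ * (v a₁ * v a₁) * v a₂ * v a₁ := by group
        _ = _ := by rw [F.sq o.l₁]; group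
    rw [mul_assoc (v z), ← mul_left_cancel e1, ← mul_assoc, W2, one_mul]
  have sq' : ∀ {g a}, g ∈ Γ0 → g * a₁ * g⁻¹ = a → g * a₂ * g⁻¹ = q → g * z * g⁻¹ = z →
      v a * v q * (v a)⁻¹ = v z * ι z * v q := fun {g a} hg e1 e2 e3 => by
    have := congrArg (fun x => ι g * x * (ι g)⁻¹) sq
    simp only [← conj_mul, ← F.eqv o.l₁ hg, ← F.eqv o.l₂ hg, ← F.eqv clz hg, ← F.ι_conj hg F.z0, e1,
      e2, e3] at this
    rw [← this, ← e1, F.eqv o.l₁ hg, conj_inv, F.vi o.l₁]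
  obtain ⟨g₁, hg₁, x₁, y₁, z₁⟩ := o.g₁
  obtain ⟨g₂, hg₂, x₂, y₂, z₂⟩ := o.g₂
  have a0 := act₀ F o mu
  have r0 := mul_mem b₁ b₂
  have i2 := DaP.inv2 (F.a2 o.l₂)
  have rr : a₁ * a₂ * (a₁ * a₂) = z := by
    rw [mul_assoc, ← mul_assoc a₂, ← mul_assoc, ← mul_assoc]
    nth_rw 2 [← i2]
    rw [mul_assoc a₁, mul_assoc a₁, o.e₁₂, ← mul_assoc, F.a2 o.l₁, one_mul]
  set M : Subgroup G := closure {ι z, ι q, v z, v q} with hM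
  have mC : ∀ {x}, Commute x (ι z) → Commute x (ι q) → Commute x (v z) → Commute x (v q) →
      x ∈ Cs M := fun {x} c1 c2 c3 c4 => StdSz.mem_Cs.2 fun u hu => (StdSz.mem_C1.1 ((closure_le
        (C1 x)).2 (by
          rintro _ (rfl | rfl | rfl | rfl)
          exacts [StdSz.mem_C1.2 c1.symm, StdSz.mem_C1.2 c2.symm, StdSz.mem_C1.2 c3.symm,
            StdSz.mem_C1.2 c4.symm]) hu)).symm
  have iC : ∀ {x}, x ∈ Γ0 → Commute x z → Commute x q → ι x ∈ Cs M := fun hx c1 c2 =>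
    mC (F.ι_comm hx F.z0 c1) (F.ι_comm hx q0 c2) (F.vc clz hx c1).symm (F.vc mu.r hx c2).symm
  have hZ : ι z ∈ M := subset_closure (by simp)
  have hQ : ι q ∈ M := subset_closure (by simp)
  have hW : v z ∈ M := subset_closure (by simp)
  have hV : v q ∈ M := subset_closure (by simp)
  have VC : v q ∈ Cs M :=
    mC (F.vc mu.r F.z0 mu.c) (F.va mu.r) (F.comm mu).symm (Commute.refl _)
  have ab : M ≤ Cs M := (closure_le _).2 (by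
    rintro _ (rfl | rfl | rfl | rfl)
    exacts [iC F.z0 (Commute.refl _) mu.c, iC q0 mu.c.symm (Commute.refl _),
      mC cZW (F.vc clz q0 mu.c.symm) (Commute.refl _) (F.comm mu), VC])
  have cz₁ := F.vc o.l₁ F.z0 o.c₁.symm
  have cw₁ := F.comm m₁
  have eC : v a₁ * v a₂ ∈ Cs M := mC (a0.fix F clz (Commute.refl z) a0.cz)
    (a0.fix F mu.r mu.c.symm o.rq) a0.cv (commute_of_conj_eq (by
      rw [show v a₁ * v a₂ * v q * (v a₁ * v a₂)⁻¹ = v a₁ * (v a₂ * v q * (v a₂)⁻¹) * (v a₁)⁻¹ by group,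
        sq' hg₂ x₂ y₂ z₂, ← conj_mul, conj_eq_of_commute (cw₁.mul_right cz₁), sq' hg₁ x₁ y₁ z₁,
        ← mul_assoc, (cZW.mul_mul_mul_comm _ _).symm, W2, Z2, one_mul, one_mul]))
  have s3 : ∀ x, s * (s * x * s⁻¹) * s⁻¹ = s⁻¹ * x * s := fun x => by
    have : s * s = s⁻¹ := eq_inv_of_mul_eq_one_left (by rw [← o.s3, pow_three'])
    rw [show s * (s * x * s⁻¹) * s⁻¹ = s * s * x * (s * s)⁻¹ by group, this, inv_inv]
  have cs : ∀ {x}, Commute x z → Commute x q →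
      Commute (s * x * s⁻¹) z ∧ Commute (s * x * s⁻¹) q := fun c1 c2 => by
    have d1 := commute_conj c1 s
    have d2 := commute_conj c2 s
    rw [o.sz] at d1
    rw [o.sq] at d2
    exact ⟨by simpa using d2.mul_right d1.inv_right, d1⟩
  obtain ⟨r1z, r1q⟩ := cs a0.cz o.rq
  obtain ⟨r2z, r2q⟩ := cs r1z r1q
  have r1 := mul_mem (mul_mem o.s0 r0) (inv_mem o.s0)
  have r2 := mul_mem (mul_mem o.s0 r1) (inv_mem o.s0)
  have p : ι (a₁ * a₂) * ι (s * (a₁ * a₂) * s⁻¹) * ι (s * (s * (a₁ * a₂) * s⁻¹) * s⁻¹) = 1 := by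
    rw [← F.ι_mul r0 r1, ← F.ι_mul (mul_mem r0 r1) r2, s3, o.prod, F.ι_one]
  have eZ := StdSz.mem_Cs.1 eC _ hZ
  have er₀ : Commute (v a₁ * v a₂) (ι (a₁ * a₂)) := (commute_of_conj_eq (by
    rw [← conj_mul, ← F.eqv o.l₁ r0, ← F.eqv o.l₂ r0,
      show a₁ * a₂ * a₁ * (a₁ * a₂)⁻¹ = a₁ * (a₂ * a₁ * a₂⁻¹) * a₁⁻¹ by group, o.e₁₂,
      show a₁ * a₂ * a₂ * (a₁ * a₂)⁻¹ = a₁ * a₂ * a₁⁻¹ by group, e₂₁ F o mu,
      conj_eq_of_commute ((Commute.refl a₁).mul_right o.c₁), ← m₁.e, ← m₂.e,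
      ((F.comm m₂).mul_mul_mul_comm _ _).symm, W2, mul_one])).symm
  have er₁ : v a₁ * v a₂ * ι (s * (a₁ * a₂) * s⁻¹) * (v a₁ * v a₂)⁻¹ =
      ι z * ι (s * (a₁ * a₂) * s⁻¹) := by
    have e1 : ι (s * (a₁ * a₂) * s⁻¹) * (v a₁ * v a₂) * (ι (s * (a₁ * a₂) * s⁻¹))⁻¹ =
        ι z * (v a₁ * v a₂) := by
      rw [← conj_mul, ← F.eqv o.l₁ r1, ← F.eqv o.l₂ r1, o.r₁, o.r₂, ← m₁.e]
      have e2 : v a₂ * v a₁ = v a₁ * (v z * ι z * v a₂) := by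
        rw [← sq, ← mul_assoc, ← mul_assoc, F.sq o.l₁, one_mul]
      rw [← mul_assoc, e2, mul_assoc, mul_assoc _ (v a₂), (F.comm m₂).eq, ← mul_assoc _ (v z),
        mul_assoc (v z), ← cZW.eq, ← mul_assoc (v z), W2, one_mul, cz₁.left_comm]
    rw [mul_inv_eq_iff_eq_mul] at e1 ⊢
    rw [mul_assoc (ι z), e1, ← mul_assoc (ι z), ← mul_assoc (ι z), Z2, one_mul]
  have h₀ : Rel M t (v a₁ * v a₂) (ι (a₁ * a₂)) (ι (s * (a₁ * a₂) * s⁻¹))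
      (ι (s * (s * (a₁ * a₂) * s⁻¹) * s⁻¹)) (ι z) (v z) := by
    refine ⟨eC, e_t F o mu, conj_eq_of_commute er₀, er₁, ?_⟩
    rw [eq_inv_of_mul_eq_one_right p, ← conj_inv, ← conj_mul, conj_eq_of_commute er₀, er₁,
      (F.ι_comm r0 F.z0 a0.cz).left_comm, ((F.ι_comm F.z0 r0 a0.cz.symm).mul_right
        (F.ι_comm F.z0 r1 r1z.symm)).eq, mul_inv_rev, DaP.inv2 Z2]
  have sM : ι s ∈ Ns M := mem_normalizer_of_cj_le (by
    rw [hM, cj_closure]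
    refine (closure_le _).2 ?_
    rintro _ ⟨_, rfl | rfl | rfl | rfl, rfl⟩ <;> beta_reduce
    · rw [← F.ι_conj o.s0 F.z0, o.sz]; exact hQ
    · rw [← F.ι_conj o.s0 q0, o.sq, F.ι_mul F.z0 q0]; exact mul_mem hZ hQ
    · rw [← F.eqv clz o.s0, o.sz]; exact hV
    · rw [← F.eqv mu.r o.s0, o.sq, ← mu.e]; exact mul_mem hW hV)
  have s4 : s * (s * (s * (a₁ * a₂) * s⁻¹) * s⁻¹) * s⁻¹ = a₁ * a₂ := by rw [s3]; group
  have h₁ := h₀.conj sM (F.tι o.s0).symm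
  rw [← F.ι_conj o.s0 r0, ← F.ι_conj o.s0 r1, ← F.ι_conj o.s0 r2, ← F.ι_conj o.s0 F.z0,
    ← F.eqv clz o.s0, o.sz, s4] at h₁
  have h₂ := h₁.conj sM (F.tι o.s0).symm
  rw [← F.ι_conj o.s0 r0, ← F.ι_conj o.s0 r1, ← F.ι_conj o.s0 r2, ← F.ι_conj o.s0 q0,
    ← F.eqv mu.r o.s0, o.sq, s4, F.ι_mul F.z0 q0, ← mu.e] at h₂
  obtain ⟨k1, k2, k3⟩ := alg h₀ h₁ h₂ hZ hQ hW hV ab (iC r1 r1z r1q) (iC r2 r2z r2q) p Z2 (F.ι2 mu.r)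
    W2 (F.sq mu.r)
  have nx : ∀ {c x}, c⁻¹ * ι x * c * (ι x)⁻¹ ∈ M → x ∈ Γ0 → (ι s * c * (ι s)⁻¹)⁻¹ *
      ι (s * x * s⁻¹) * (ι s * c * (ι s)⁻¹) * (ι (s * x * s⁻¹))⁻¹ ∈ M := fun hc hx => by
    rw [F.ι_conj o.s0 hx]
    convert mem_normalizer_conj sM hc using 1
    group
  have w1 := mul_mem (mul_mem o.s0 o.w0) (inv_mem o.s0)
  have w2 := mul_mem (mul_mem o.s0 w1) (inv_mem o.s0)
  obtain ⟨w1z, w1q⟩ := cs o.wz o.wq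
  obtain ⟨w2z, w2q⟩ := cs w1z w1q
  have s5 : s * (s * (s * w * s⁻¹) * s⁻¹) * s⁻¹ = w := by rw [s3]; group
  have n₁ := nx (ec F o mu w2 w2z w2q (o.wr _ (.inr (.inl (s3 w))))) w2
  have n₂ := nx (nx (ec F o mu w1 w1z w1q (o.wr _ (.inr (.inr rfl)))) w1) w2
  rw [s5] at n₁ n₂
  have n := step (step (ec F o mu o.w0 o.wz o.wq (o.wr _ (.inl rfl))) n₁ h₁.c) n₂ h₂.c
  have gC := mul_mem (mul_mem eC h₁.c) h₂.c
  generalize v a₁ * v a₂ * (ι s * (v a₁ * v a₂) * (ι s)⁻¹) *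
    (ι s * (ι s * (v a₁ * v a₂) * (ι s)⁻¹) * (ι s)⁻¹) = g at k1 k2 k3 n gC
  have n' := step (c := v q) (u := ι w) (by
    rw [mul_assoc _ (ι w), ← (F.vc mu.r o.w0 o.wq).eq, inv_mul_cancel_left, mul_inv_cancel]
    exact one_mem M) n gC
  have kk : ∀ x, v q * g * x * (v q * g)⁻¹ = v q * (g * x * g⁻¹) * (v q)⁻¹ := fun x => by group
  have ct : Commute (v q * g) t := commute_of_conj_eq (by
    rw [kk, k1, ← conj_mul, F.tr mu.r, conj_eq_of_commute (F.va mu.r), mul_assoc, F.ι2 mu.r, mul_one])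
  have hn := F.s.cN (StdSz.mem_C1.2 ct)
  have hC := mul_mem VC gC
  have cρ : ∀ {x y}, x ∈ Γ0 → y ∈ Γ0 → v q * g * ι x * (v q * g)⁻¹ = ι y →
      ρ (v q * g) * x * (ρ (v q * g))⁻¹ = y := fun hx hy e => by
    rw [← F.ρι hy, ← e, F.h.conj hn (F.N hx), F.ρι hx]
  have γz := commute_of_conj_eq (cρ F.z0 F.z0 (conj_eq_of_commute (StdSz.mem_Cs.1 hC _ hZ)))
  have γq := commute_of_conj_eq (cρ q0 q0 (conj_eq_of_commute (StdSz.mem_Cs.1 hC _ hQ)))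
  have iv : ∀ {x y : Ω}, x * x = y → y * y = 1 → y * x = x⁻¹ := fun {x y} e1 e2 =>
    eq_inv_of_mul_eq_one_left (by rw [mul_assoc, e1, e2])
  refine o.tw _ (F.h.memΓ _ hn) γz γq (cρ r0 (inv_mem r0) ?_) (cρ r1 (inv_mem r1) ?_) ?_
  · rw [kk, k2, ← F.ι_mul F.z0 r0, iv rr F.z2,
      conj_eq_of_commute (F.vc mu.r (inv_mem r0) o.rq.inv_left)]
  · rw [kk, k3, ← F.ι_mul q0 r1, iv (by rw [conj_mul, rr, o.sz]) (F.a2 mu.r),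
      conj_eq_of_commute (F.vc mu.r (inv_mem r1) r1q.inv_left)]
  have l : M ≤ K4 (ι z) (ι q) ⊔ K4 (v z) (v q) := (closure_le _).2 (by
    rintro _ (rfl | rfl | rfl | rfl)
    exacts [mem_sup_left (l_K4 _ _), mem_sup_left (r_K4 _ _), mem_sup_right (l_K4 _ _),
      mem_sup_right (r_K4 _ _)])
  obtain ⟨a, ha, b, hb, e1⟩ := (Solv.mem_sup_of_le_normalizer (((K4_le.2 ⟨hW, hV⟩).trans
    (ab.trans (StdJ4.Cs_anti (K4_le.2 ⟨hZ, hQ⟩)))).trans (StdJ4.Cs_le_Ns _))).1 (l n')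
  have bt : Commute b t := by
    have c1 : Commute (a * b) t :=
      e1 ▸ ((ct.inv_left.mul_left (F.tι o.w0).symm).mul_left ct).mul_left (F.tι o.w0).symm.inv_left
    have c2 : Commute a t := StdSz.mem_C1.1 (K4_le.2
      ⟨StdSz.mem_C1.2 (F.tι F.z0).symm, StdSz.mem_C1.2 (F.tι q0).symm⟩ ha)
    simpa using c2.inv_left.mul_left c1
  have b1 : b = 1 := by
    rcases (mem_K4 W2 (F.sq mu.r) (F.comm mu)).1 hb with rfl | rfl | rfl | rfl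
    exacts [rfl, absurd bt (F.not_comm clz), absurd bt (F.not_comm mu.r),
      absurd (mu.e ▸ bt) (F.not_comm mu.m)]
  have e2 := Tr.K4_to F.h (F.ιA F.z0) (F.ιA q0) ha
  have wN := F.N o.w0
  rw [F.ρι F.z0, F.ρι q0, ← mul_one a, ← b1, e1, F.h.mul _ (mul_mem (mul_mem (inv_mem hn) wN) hn) _
    (inv_mem wN), F.h.mul _ (mul_mem (inv_mem hn) wN) _ hn, F.h.mul _ (inv_mem hn) _ wN, F.h.inv hn,
    F.h.inv wN, F.ρι o.w0] at e2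
  have e3 := conj_eq_of_commute (StdSz.mem_C1.1 (K4_le.2
    ⟨StdSz.mem_C1.2 γz.symm, StdSz.mem_C1.2 γq.symm⟩ (inv_mem e2))).symm
  convert inv_mem e2 using 1
  rw [← e3, commutatorElement_def]; group

end Cfsg.Lib.SJ2
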