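import Cfsg.Agent.SJ2.Basic
import Cfsg.Agent.StdX.Cal3

/-!
# Standard subgroups of type `J₂`: commutators with the product of two involutions of the family
-/

set_option autoImplicit false
set_option linter.unusedSectionVars false
set_option linter.unusedVariables false

namespace Cfsg.Lib.SJ2

open Subgroup Cfsg.Lib.Gold Cfsg.Lib.Trans Cfsg.Lib.StdSz Cfsg.Lib.StdW
open Cfsg.Lib.StdM (Cl)
open Cfsg.Lib.StdX (OF VG Tr3 Db Fm Mu Rl inj conj_of comm_of exists_sec)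
open scoped commutatorElement

variable {G Ω : Type*} [Group G] [Group Ω] [Finite G] [Finite Ω] {Γ Γ0 : Subgroup Ω}
  {z q a₁ a₂ s w : Ω} {A : Subgroup G} {ρ : G → Ω} {t : G} {ι v : Ω → G}

namespace TWa

/-- `c` acts on the lifts of the neighbours of `z` as `γ` does on the neighbours -/
structure Act (Γ0 : Subgroup Ω) (z : Ω) (ι v : Ω → G) (γ : Ω) (c : G) : Prop where
  cz : Commute γ z
  cv : Commute c (v z)
  act : ∀ b, Cl Γ0 z b → Commute b z → (γ * b * γ⁻¹ = b ∧ c * ι b * c⁻¹ = ι b) ∨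
    (γ * b * γ⁻¹ = b * z ∧ c * ι b * c⁻¹ = ι b * v z)

theorem clz : Cl Γ0 z z := ⟨1, one_mem _, by group⟩

theorem Act.one : Act Γ0 z ι v 1 1 :=
  ⟨Commute.one_left _, Commute.one_left _, fun _ _ _ => .inl ⟨by group, by group⟩⟩

variable (F : Fm Γ Γ0 z A ρ t ι v) {γ δ x a b : Ω} {c d : G}
include F

theorem Act.mul (h : Act Γ0 z ι v γ c) (k : Act Γ0 z ι v δ d) : Act Γ0 z ι v (γ * δ) (c * d) := by
  refine ⟨h.cz.mul_left k.cz, h.cv.mul_left k.cv, fun b h1 h2 => ?_⟩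
  rw [show γ * δ * b * (γ * δ)⁻¹ = γ * (δ * b * δ⁻¹) * γ⁻¹ by group,
    show c * d * ι b * (c * d)⁻¹ = c * (d * ι b * d⁻¹) * c⁻¹ by group]
  rcases k.act b h1 h2 with ⟨e1, e2⟩ | ⟨e1, e2⟩ <;> rw [e1, e2]
  · exact h.act b h1 h2
  · rw [← conj_mul, ← conj_mul, conj_eq_of_commute h.cz, conj_eq_of_commute h.cv]
    rcases h.act b h1 h2 with ⟨e3, e4⟩ | ⟨e3, e4⟩ <;> rw [e3, e4]
    · exact .inr ⟨rfl, rfl⟩
    · exact .inl ⟨by rw [mul_assoc, F.z2, mul_one], by rw [mul_assoc, F.sq clz, mul_one]⟩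

theorem Act.inv (h : Act Γ0 z ι v γ c) : Act Γ0 z ι v γ⁻¹ c⁻¹ := by
  refine ⟨h.cz.inv_left, h.cv.inv_left, fun b h1 h2 => (h.act b h1 h2).imp
    (fun e => ⟨by conv_lhs => rw [← e.1]
                  group, by conv_lhs => rw [← e.2]
                            group⟩) fun e => ⟨?_, ?_⟩⟩
  · have : γ * (b * z) * γ⁻¹ = b := by
      rw [← conj_mul, e.1, conj_eq_of_commute h.cz, mul_assoc, F.z2, mul_one]
    conv_lhs => rw [← this]
    group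
  · have : c * (ι b * v z) * c⁻¹ = ι b := by
      rw [← conj_mul, e.2, conj_eq_of_commute h.cv, mul_assoc, F.sq clz, mul_one]
    conv_lhs => rw [← this]
    group

theorem Act.conj (h : Act Γ0 z ι v γ c) (hx : x ∈ Γ0) (xz : Commute x z) :
    Act Γ0 z ι v (x * γ * x⁻¹) (ι x * c * (ι x)⁻¹) := by
  have c1 := (F.vc clz hx xz).symm
  refine ⟨(xz.mul_left h.cz).mul_left xz.inv_left, (c1.mul_left h.cv).mul_left c1.inv_left,
    fun b h1 h2 => ?_⟩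
  obtain ⟨b, rfl⟩ : ∃ b', b = x * b' * x⁻¹ := ⟨x⁻¹ * b * x, by group⟩
  have h3 : Cl Γ0 z b := by
    obtain ⟨l, hl, e⟩ := h1
    exact ⟨x⁻¹ * l, mul_mem (inv_mem hx) hl, by
      rw [show x⁻¹ * l * z * (x⁻¹ * l)⁻¹ = x⁻¹ * (l * z * l⁻¹) * x by group, e]; group⟩
  have h4 : Commute b z := by simpa [mul_assoc] using (xz.inv_left.mul_left h2).mul_left xz
  rw [F.ι_conj hx (F.mem h3),
    show x * γ * x⁻¹ * (x * b * x⁻¹) * (x * γ * x⁻¹)⁻¹ = x * (γ * b * γ⁻¹) * x⁻¹ by group,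
    show ι x * c * (ι x)⁻¹ * (ι x * ι b * (ι x)⁻¹) * (ι x * c * (ι x)⁻¹)⁻¹ =
      ι x * (c * ι b * c⁻¹) * (ι x)⁻¹ by group]
  exact (h.act b h3 h4).imp (fun e => ⟨by rw [e.1], by rw [e.2]⟩) fun e =>
    ⟨by rw [e.1, ← conj_mul, conj_eq_of_commute xz], by rw [e.2, ← conj_mul, conj_eq_of_commute c1]⟩

theorem Act.fix (h : Act Γ0 z ι v γ c) (h1 : Cl Γ0 z b) (h2 : Commute b z) (e : Commute γ b) :
    Commute c (ι b) :=
  commute_of_conj_eq ((h.act b h1 h2).resolve_right fun e' =>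
    F.z1 (mul_eq_left.1 (e'.1.symm.trans (conj_eq_of_commute e)))).2

variable (o : Jo Γ Γ0 z q a₁ a₂ s w) (mu : Mu Γ0 z v z q)
include o mu

theorem muz (h1 : Cl Γ0 z b) (h2 : Commute b z) (h3 : b ≠ z) : Mu Γ0 z v b z := by
  obtain ⟨g, hg, e1, e2⟩ := o.flag b h1 h2 h3
  have := F.cj mu hg
  rw [e1, e2] at this
  exact F.symm this

theorem act (h1 : Cl Γ0 z a) (h2 : Commute a z) : Act Γ0 z ι v a (v a) := by
  refine ⟨h2, ?_, fun b h3 h4 => (o.nbr a b h1 h3 h2 h4).imp (fun e => ⟨conj_eq_of_commute e,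
    conj_eq_of_commute (F.vc h1 (F.mem h3) e.symm)⟩) fun e =>
      ⟨StdX.Cal3.sw (F.a2 h3) (F.a2 h1) h4 e, ?_⟩⟩
  · by_cases e : a = z
    · rw [e]
    · exact F.comm (muz F o mu h1 h2 e)
  · rw [F.vi h1]
    refine F.dih (muz F o mu h1 h2 fun e' => F.z1 ?_) h3 e
    rw [e', conj_eq_of_commute h4, F.z2] at e
    exact e

theorem ne₁ : a₁ ≠ z := fun e => F.z1 (by
  have := o.e₁₂
  rwa [e, conj_eq_of_commute o.c₂, F.z2] at this)

theorem e₂₁ : a₁ * a₂ * a₁⁻¹ = a₂ * z := StdX.Cal3.sw (F.a2 o.l₂) (F.a2 o.l₁) o.c₂ o.e₁₂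

theorem ne₂ : a₂ ≠ z := fun e => F.z1 (by
  have := e₂₁ F o mu
  rwa [e, conj_eq_of_commute o.c₁, F.z2] at this)

theorem dih₁ : v a₁ * ι a₂ * v a₁ = ι a₂ * v z :=
  F.dih (muz F o mu o.l₁ o.c₁ (ne₁ F o mu)) o.l₂ o.e₁₂

theorem act₀ : Act Γ0 z ι v (a₁ * a₂) (v a₁ * v a₂) :=
  (act F o mu o.l₁ o.c₁).mul F (act F o mu o.l₂ o.c₂)

theorem e_t : v a₁ * v a₂ * t * (v a₁ * v a₂)⁻¹ = t * ι (a₁ * a₂) * v z := by
  rw [F.ι_mul (F.mem o.l₁) (F.mem o.l₂), ← mul_assoc, mul_assoc _ (ι a₂), ← dih₁ F o mu,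
    ← F.vt o.l₁, mul_inv_rev, F.vi o.l₁, F.vi o.l₂]
  calc _ = v a₁ * (v a₂ * t * v a₂) * v a₁ := by group
    _ = v a₁ * t * (v a₁ * v a₁) * ι a₂ * v a₁ := by rw [F.vt o.l₂, F.sq o.l₁]; group
    _ = _ := by group

end TWa

open TWa

theorem ec (F : Fm Γ Γ0 z A ρ t ι v) (o : Jo Γ Γ0 z q a₁ a₂ s w) (mu : Mu Γ0 z v z q) {x : Ω}
    (hx : x ∈ Γ0) (xz : Commute x z) (xq : Commute x q) (h : ⁅x, a₁ * a₂⁆ ∈ K4 z q) :
    (v a₁ * v a₂)⁻¹ * ι x * (v a₁ * v a₂) * (ι x)⁻¹ ∈ closure {ι z, ι q, v z, v q} := by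
  have a0 := act₀ F o mu
  have et := e_t F o mu
  have r0 := mul_mem (F.mem o.l₁) (F.mem o.l₂)
  have rq := o.rq
  generalize v a₁ * v a₂ = e at *
  generalize a₁ * a₂ = r at *
  have ez := a0.fix F clz (Commute.refl z) a0.cz
  have eq := a0.fix F mu.r mu.c.symm rq
  obtain ⟨u, hu⟩ : ∃ u, ⁅x, r⁆ = u := ⟨_, rfl⟩
  rw [hu] at h
  obtain ⟨u0, u2, ur, ue, y, hy, y1, y2, y3⟩ : u ∈ Γ0 ∧ u * u = 1 ∧ Commute r u ∧ Commute e (ι u) ∧
      ∃ y ∈ closure {ι z, ι q, v z, v q}, Act Γ0 z ι v u y ∧ y * t * y⁻¹ = t * ι u ∧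
        Commute y (ι u) := by
    have k : ∀ {u}, Cl Γ0 z u → Commute u z → Commute r u → v u ∈ closure {ι z, ι q, v z, v q} →
        u ∈ Γ0 ∧ u * u = 1 ∧ Commute r u ∧ Commute e (ι u) ∧
          ∃ y ∈ closure {ι z, ι q, v z, v q}, Act Γ0 z ι v u y ∧ y * t * y⁻¹ = t * ι u ∧
            Commute y (ι u) := fun h1 h2 h3 h4 =>
      ⟨F.mem h1, F.a2 h1, h3, a0.fix F h1 h2 h3, _, h4, act F o mu h1 h2, F.tr h1, F.va h1⟩
    have m1 : v z ∈ closure {ι z, ι q, v z, v q} := subset_closure (by simp)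
    have m2 : v q ∈ closure {ι z, ι q, v z, v q} := subset_closure (by simp)
    rcases (mem_K4 F.z2 (F.a2 mu.r) mu.c).1 h with rfl | rfl | rfl | rfl
    · rw [F.ι_one]
      exact ⟨one_mem _, mul_one 1, Commute.one_right _, Commute.one_right _, 1, one_mem _, .one,
        by group, Commute.one_right _⟩
    · exact k clz (Commute.refl _) a0.cz m1
    · exact k mu.r mu.c.symm rq m2
    · exact k mu.m ((Commute.refl z).mul_left mu.c.symm) (a0.cz.mul_right rq) (mu.e ▸ mul_mem m1 m2)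
  have xr : x * r * x⁻¹ = u * r := by rw [← hu, commutatorElement_def]; group
  have a1 := y1.mul F ((a0.inv F).mul F (a0.conj F hx xz))
  rw [xr, ← ur.eq, inv_mul_cancel_left, u2, ← mul_assoc e⁻¹, ← mul_assoc e⁻¹] at a1
  generalize hc : e⁻¹ * ι x * e * (ι x)⁻¹ = c at *
  have c1 : c * t * c⁻¹ = ι u * t := by
    calc _ = e⁻¹ * (ι x * (e * ((ι x)⁻¹ * t * (ι x)⁻¹⁻¹) * e⁻¹) * (ι x)⁻¹) * e := by
          rw [← hc]; group
      _ = e⁻¹ * (ι u * (t * ι r * v z)) * e := by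
          rw [conj_eq_of_commute (F.tι hx).symm.inv_left, et, ← conj_mul, ← conj_mul,
            conj_eq_of_commute (F.tι hx).symm, conj_eq_of_commute (F.vc clz hx xz).symm,
            ← F.ι_conj hx r0, xr, F.ι_mul u0 r0, ← mul_assoc t, (F.tι u0).eq]
          group
      _ = _ := by rw [← et, ← mul_assoc e⁻¹, ue.inv_left.eq]; group
  have c2 : Commute (y * c) t := commute_of_conj_eq (by
    rw [show y * c * t * (y * c)⁻¹ = y * (c * t * c⁻¹) * y⁻¹ by group, c1, ← conj_mul, y2,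
      conj_eq_of_commute y3, ← mul_assoc, ← (F.tι u0).eq, mul_assoc, ← F.ι_mul u0 u0, u2, F.ι_one,
      mul_one])
  have n := F.s.cN (StdSz.mem_C1.2 c2)
  have k := o.cQ _ (F.h.memΓ _ n) fun b h1 h2 => F.ρι (F.mem h1) ▸
    F.h.commute n (F.N (F.mem h1)) (a1.fix F h1 h2 (Commute.one_left b))
  obtain ⟨k0, k1, k2⟩ : ρ (y * c) ∈ Γ0 ∧ Commute (ρ (y * c)) z ∧
      ι (ρ (y * c)) ∈ closure {ι z, ι q, v z, v q} := by
    rcases k with e | e <;> rw [e]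
    · exact ⟨one_mem _, Commute.one_left _, F.ι_one ▸ one_mem _⟩
    · exact ⟨F.z0, Commute.refl z, subset_closure (by simp)⟩
  rcases F.dec c2 k0 with e1 | e1
  · exact (mul_mem_cancel_left hy).1 (e1 ▸ k2)
  · refine absurd ?_ (F.not_comm clz)
    have := (F.vc clz k0 k1).inv_right.mul_right a1.cv.symm
    rwa [inv_mul_eq_iff_eq_mul.2 e1] at this

end Cfsg.Lib.SJ2
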